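import Groth.Agent.Lib.WeilCoh.Dims

/-!
Formal consequences of Poincaré duality for a Weil cohomology theory: the characterisation of
push-forward, degree zero and the dimension of a product.
-/

set_option linter.style.haveILetI false

universe u v w

open CategoryTheory AlgebraicGeometry

namespace GrothLib.WeilCoh

open _root_.WeilCoh

section General

variable {k : Type u} [Field k] {P : ObjectProperty (Over (Spec (CommRingCat.of k)))}
variable {K : Type v} [Field K] (T : TheoryOn.{u, v, w} k P K)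

lemma mem_of_deg_eq {X : P.FullSubcategory} {i j : ℤ} (h : i = j) {a : T.H X} (ha : a ∈ T.gr X i) :
    a ∈ T.gr X j := h ▸ ha

lemma mul_mem {X : P.FullSubcategory} {i j l : ℤ} (h : i + j = l) {a b : T.H X}
    (ha : a ∈ T.gr X i) (hb : b ∈ T.gr X j) : a * b ∈ T.gr X l :=
  h ▸ SetLike.mul_mem_graded ha hb

lemma mul_comm_of_even {X : P.FullSubcategory} {i j : ℤ} (hi : Even i) {a b : T.H X}
    (ha : a ∈ T.gr X i) (hb : b ∈ T.gr X j) : a * b = b * a := by
  rw [T.gradedComm X i j a b ha hb]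
  have h : Even i.natAbs := Int.natAbs_even.2 hi
  rw [(h.mul_right j.natAbs).neg_one_pow, one_smul]

lemma eq_of_tr {X : P.FullSubcategory} {i j : ℤ} (hij : i + j = 2 * (dim X.obj.left : ℤ))
    {a a' : T.H X} (ha : a ∈ T.gr X i) (ha' : a' ∈ T.gr X i)
    (h : ∀ b ∈ T.gr X j, T.tr X (a * b) = T.tr X (a' * b)) : a = a' := by
  haveI := T.duality X i j hij
  have hinj := (LinearMap.IsPerfPair.bijective_left (pairing K (T.gr X i) (T.gr X j) (T.tr X))).1
  exact congrArg Subtype.val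
    (@hinj ⟨a, ha⟩ ⟨a', ha'⟩ (LinearMap.ext fun b => h b.1 b.2))

/-- The defining property of push-forward. -/
lemma tr_push_mul {X Y : P.FullSubcategory} (f : X ⟶ Y) (i : ℤ) (a : T.gr X i) {b : T.H Y}
    (hb : b ∈ T.gr Y (2 * (dim X.obj.left : ℤ) - i)) :
    T.tr Y ((T.push f i a : T.H Y) * b) = T.tr X ((a : T.H X) * T.pull f b) := by
  haveI := T.duality Y (i + 2 * (dim Y.obj.left : ℤ) - 2 * (dim X.obj.left : ℤ))
    (2 * (dim X.obj.left : ℤ) - i) (by omega)
  have h : (pairing K (T.gr Y (i + 2 * (dim Y.obj.left : ℤ) - 2 * (dim X.obj.left : ℤ)))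
      (T.gr Y (2 * (dim X.obj.left : ℤ) - i)) (T.tr Y)).toPerfPair (T.push f i a)
      = T.pushFunctional f i a := by
    simp [TheoryOn.push]
  exact congr($h ⟨b, hb⟩)

lemma push_eq {X Y : P.FullSubcategory} (f : X ⟶ Y) (i : ℤ) (a : T.gr X i) {c : T.H Y}
    (hc : c ∈ T.gr Y (i + 2 * (dim Y.obj.left : ℤ) - 2 * (dim X.obj.left : ℤ)))
    (h : ∀ b ∈ T.gr Y (2 * (dim X.obj.left : ℤ) - i),
      T.tr Y (c * b) = T.tr X ((a : T.H X) * T.pull f b)) :
    (T.push f i a : T.H Y) = c :=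
  eq_of_tr T (j := 2 * (dim X.obj.left : ℤ) - i) (by omega) (T.push f i a).2 hc
    fun b hb => (tr_push_mul T f i a hb).trans (h b hb).symm

lemma one_ne_zero_H (X : P.FullSubcategory) : (1 : T.H X) ≠ 0 := by
  intro h
  obtain ⟨a, ha⟩ := (T.tr_bijective X).2 1
  have h0 : (a : T.H X) = 0 := by rw [← mul_one (a : T.H X), h, mul_zero]
  simp [LinearMap.domRestrict_apply, h0] at ha

lemma finrank_top (X : P.FullSubcategory) :
    Module.finrank K (T.gr X (2 * (dim X.obj.left : ℤ))) = 1 :=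
  ((LinearEquiv.ofBijective _ (T.tr_bijective X)).finrank_eq).trans (Module.finrank_self K)

lemma finrank_gr_zero (X : P.FullSubcategory) : Module.finrank K (T.gr X 0) = 1 := by
  haveI := T.duality X 0 (2 * (dim X.obj.left : ℤ)) (zero_add _)
  rw [(pairing K (T.gr X 0) (T.gr X (2 * (dim X.obj.left : ℤ))) (T.tr X)).toPerfPair.finrank_eq,
    Subspace.dual_finrank_eq, finrank_top]

lemma bijective_smul_one (X : P.FullSubcategory) :
    Function.Bijective (fun c : K =>
      (⟨c • (1 : T.H X), (T.gr X 0).smul_mem c (SetLike.one_mem_graded (T.gr X))⟩ : ↥(T.gr X 0))) := by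
  refine ⟨fun c c' h => smul_left_injective K (one_ne_zero_H T X) (congrArg Subtype.val h), fun a => ?_⟩
  have h1 : (⟨1, SetLike.one_mem_graded (T.gr X)⟩ : T.gr X 0) ≠ 0 := fun h =>
    one_ne_zero_H T X (congrArg Subtype.val h)
  obtain ⟨c, hc⟩ := (finrank_eq_one_iff_of_nonzero' _ h1).1 (finrank_gr_zero T X) a
  exact ⟨c, Subtype.ext (congrArg Subtype.val hc)⟩

lemma exists_eq_smul_one {X : P.FullSubcategory} {a : T.H X} (ha : a ∈ T.gr X 0) :
    ∃ c : K, a = c • 1 := by
  obtain ⟨c, hc⟩ := (bijective_smul_one T X).2 ⟨a, ha⟩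
  exact ⟨c, (congrArg Subtype.val hc).symm⟩

lemma exists_tr_eq_one (X : P.FullSubcategory) :
    ∃ a ∈ T.gr X (2 * (dim X.obj.left : ℤ)), T.tr X a = 1 := by
  obtain ⟨a, ha⟩ := (T.tr_bijective X).2 1
  exact ⟨a, a.2, ha⟩

include T in
/-- The dimension of a product is the sum of the dimensions. -/
lemma dim_prod {X Y Q : P.FullSubcategory} (p : Q ⟶ X) (q : Q ⟶ Y) (h : IsProd p q) :
    (dim Q.obj.left : ℤ) = dim X.obj.left + dim Y.obj.left := by
  obtain ⟨a, ha, ha1⟩ := exists_tr_eq_one T X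
  obtain ⟨b, hb, hb1⟩ := exists_tr_eq_one T Y
  by_contra hne
  have h1 : T.tr Q (T.pull p a * T.pull q b) = 0 :=
    T.tr_vanish Q _ _ (SetLike.mul_mem_graded (T.pull_mem p _ a ha) (T.pull_mem q _ b hb)) (by omega)
  rw [T.tr_prod p q h a b ha hb, ha1, hb1, mul_one] at h1
  exact one_ne_zero h1

lemma push_mul_pull {X Y : P.FullSubcategory} (f : X ⟶ Y) (i j : ℤ)
    (a : ↥(T.gr X i)) (c : ↥(T.gr Y j)) :
    (T.push f (i + j) ⟨(a : T.H X) * T.pull f c,
        SetLike.mul_mem_graded a.2 (T.pull_mem f j c c.2)⟩ : T.H Y) =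
      (T.push f i a : T.H Y) * c := by
  refine push_eq T f _ _ (mul_mem T (by ring) (T.push f i a).2 c.2) fun b hb => ?_
  rw [mul_assoc, tr_push_mul T f i a (mul_mem T (by ring) c.2 hb), map_mul (T.pull f), mul_assoc]

lemma push_comp {X Y Z : P.FullSubcategory} (f : X ⟶ Y) (g : Y ⟶ Z) (i : ℤ) (a : ↥(T.gr X i)) :
    (T.push (f ≫ g) i a : T.H Z) =
      (T.push g (i + 2 * (dim Y.obj.left : ℤ) - 2 * (dim X.obj.left : ℤ))
        (T.push f i a) : T.H Z) := by
  refine push_eq T (f ≫ g) i a (mem_of_deg_eq T (by ring) (T.push g _ (T.push f i a)).2) fun b hb => ?_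
  rw [tr_push_mul T g _ _ (mem_of_deg_eq T (by ring) hb),
    tr_push_mul T f i a (T.pull_mem g _ b hb), T.pull_comp, AlgHom.comp_apply]

lemma push_pull_proj {X Y Q : P.FullSubcategory} (p : Q ⟶ X) (q : Q ⟶ Y) (hQ : IsProd p q)
    (i : ℤ) (a : ↥(T.gr Y i)) :
    (i = 2 * (dim Y.obj.left : ℤ) →
      (T.push p i ⟨T.pull q a, T.pull_mem q i a a.2⟩ : T.H X) = algebraMap K (T.H X) (T.tr Y a)) ∧
    (i ≠ 2 * (dim Y.obj.left : ℤ) →
      (T.push p i ⟨T.pull q a, T.pull_mem q i a a.2⟩ : T.H X) = 0) := by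
  have hd := dim_prod T p q hQ
  refine ⟨fun hi => ?_, fun hi => ?_⟩
  · refine push_eq T p i _ ?_ fun b hb => ?_
    · rw [Algebra.algebraMap_eq_smul_one]
      exact mem_of_deg_eq T (by omega)
        ((T.gr X 0).smul_mem _ (SetLike.one_mem_graded (T.gr X)))
    · have ha : (a : T.H Y) ∈ T.gr Y (2 * (dim Y.obj.left : ℤ)) := hi ▸ a.2
      have hb' : b ∈ T.gr X (2 * (dim X.obj.left : ℤ)) := mem_of_deg_eq T (by omega) hb
      rw [← Algebra.smul_def, map_smul, smul_eq_mul,
        mul_comm_of_even T (even_two_mul _) (T.pull_mem q _ _ ha) (T.pull_mem p _ b hb'),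
        T.tr_prod p q hQ b a hb' ha, mul_comm]
  · rcases lt_or_gt_of_ne hi with h | h
    · refine push_eq T p i _ (zero_mem _) fun b hb => ?_
      have hb0 : b = 0 := by
        have := T.vanish X _ (Or.inr (by omega : 2 * (dim X.obj.left : ℤ) < 2 * (dim Q.obj.left : ℤ) - i))
        rw [this] at hb
        exact hb
      rw [hb0, map_zero, mul_zero, mul_zero, map_zero, map_zero]
    · have ha0 : (a : T.H Y) = 0 := by
        exact (Submodule.eq_bot_iff _).1 (T.vanish Y i (Or.inr h)) _ a.2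
      refine push_eq T p i _ (zero_mem _) fun b hb => ?_
      simp [ha0]

end General

section Var

variable {k : Type u} [Field k] {K : Type v} [Field K] (T : TheoryOn.{u, v, w} k (IsVar k) K)

/-- Push-forward of the class of a closed irreducible subset. -/
lemma push_cl {X Y : Var k} (f : X ⟶ Y) (ξ : ↥X.obj.left) :
    (T.push f (2 * (codim X.obj.left ξ : ℤ)) ⟨T.cl X ξ, T.cl_mem X ξ⟩ : T.H Y) =
      ((sm f).residueDegree ξ : K) • T.cl Y (sm f ξ) := by
  have hc : ((sm f).residueDegree ξ : K) • T.cl Y (sm f ξ) ∈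
      T.gr Y (2 * (codim X.obj.left ξ : ℤ) + 2 * (dim Y.obj.left : ℤ) - 2 * (dim X.obj.left : ℤ)) := by
    by_cases h : (sm f).residueDegree ξ = 0
    · rw [h, Nat.cast_zero, zero_smul]; exact zero_mem _
    · refine Submodule.smul_mem _ _ (mem_of_deg_eq T ?_ (T.cl_mem Y _))
      rw [codim_cast, codim_cast, pdim_eq_of_residueDegree_ne_zero f ξ h]
      ring
  refine push_eq T f _ _ hc fun b hb => ?_
  have hb' : b ∈ T.gr Y (2 * (pdim X.obj.left ξ : ℤ)) :=
    mem_of_deg_eq T (by rw [codim_cast]; ring) hb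
  rw [smul_mul_assoc, map_smul, smul_eq_mul, T.cl_push f ξ b hb']

end Var

end GrothLib.WeilCoh
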