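import Groth.Agent.Lib.WeilCoh.Lefschetz

/-!
The trace formula for composites of correspondences.
-/

set_option linter.style.haveILetI false

universe u v w

open CategoryTheory AlgebraicGeometry

namespace GrothLib.WeilCoh

open _root_.WeilCoh

variable {k : Type u} [Field k] {P : ObjectProperty (Over (Spec (CommRingCat.of k)))}
variable {K : Type v} [Field K] (T : TheoryOn.{u, v, w} k P K)

/-- The map attached to a class on a product. -/
noncomputable def corr {X Y Q : P.FullSubcategory} (p : Q ⟶ X) (q : Q ⟶ Y) {l : ℤ} (φ : ↥(T.gr Q l))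
    (i : ℤ) : ↥(T.gr X i) →ₗ[K] ↥(T.gr Y ((i + l) + 2 * (dim Y.obj.left : ℤ) - 2 * (dim Q.obj.left : ℤ))) :=
  (T.push q (i + l)) ∘ₗ
    ((LinearMap.mulRight K (φ : T.H Q)).restrict (p := T.gr Q i) (q := T.gr Q (i + l))
      (fun _ hx => SetLike.mul_mem_graded hx φ.2)) ∘ₗ
    (T.pullDeg p i)

lemma tr_corr {X Y Q : P.FullSubcategory} (p : Q ⟶ X) (q : Q ⟶ Y) {l : ℤ} (φ : ↥(T.gr Q l))
    {i : ℤ} (a : ↥(T.gr X i)) {b : T.H Y}
    (hb : b ∈ T.gr Y (2 * (dim Q.obj.left : ℤ) - (i + l))) :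
    T.tr Y ((corr T p q φ i a : T.H Y) * b) = T.tr Q (T.pull p (a : T.H X) * φ * T.pull q b) :=
  tr_corr_mul T p q i l a φ hb

/-- A class on a product in terms of the map attached to it. -/
lemma eq_sum_dual {X Y Q : P.FullSubcategory} (p : Q ⟶ X) (q : Q ⟶ Y) (h : IsProd p q) {l : ℤ}
    (φ : ↥(T.gr Q l)) {ι : ℕ → Type*} [∀ i, Fintype (ι i)] [∀ i, DecidableEq (ι i)]
    (e : (i : ℕ) → Module.Basis (ι i) K ↥(T.gr X (i : ℤ))) (f : (i : ℕ) → ι i → T.H X)
    (hf : ∀ (i : ℕ) m, f i m ∈ T.gr X (2 * (dim X.obj.left : ℤ) - i))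
    (hef : ∀ (i : ℕ), ∀ a m, T.tr X ((e i a : T.H X) * f i m) = if a = m then 1 else 0) :
    (φ : T.H Q) = ∑ i ∈ Finset.range (2 * dim X.obj.left + 1), ∑ m,
      T.pull p (f i m) * T.pull q (corr T p q φ (i : ℤ) (e i m) : T.H Y) := by
  classical
  have hd := dim_prod T p q h
  have hR : ∑ i ∈ Finset.range (2 * dim X.obj.left + 1), ∑ m,
      T.pull p (f i m) * T.pull q (corr T p q φ (i : ℤ) (e i m) : T.H Y) ∈ T.gr Q l :=
    Submodule.sum_mem _ fun i _ => Submodule.sum_mem _ fun m _ => by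
      refine mul_mem T ?_ (T.pull_mem p _ _ (hf i m)) (T.pull_mem q _ _ (corr T p q φ (i : ℤ) (e i m)).2)
      omega
  refine eq_of_tr_pull_mul_pull T p q h φ.2 hR fun s t hst a ha b hb => ?_
  rw [← mul_assoc, ← mul_assoc, T.gradedComm Q _ _ _ _ φ.2 (T.pull_mem p s a ha),
    T.gradedComm Q _ _ _ _ hR (T.pull_mem p s a ha), smul_mul_assoc, smul_mul_assoc, map_smul,
    map_smul]
  congr 1
  rw [← tr_corr T p q φ ⟨a, ha⟩ (mem_of_deg_eq T (by omega) hb : b ∈ T.gr Y (2 * (dim Q.obj.left : ℤ) - (s + l)))]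
  simp only [Finset.mul_sum, Finset.sum_mul, map_sum, ← mul_assoc, ← map_mul (T.pull p)]
  simp only [mul_assoc, ← map_mul (T.pull q), tr_pull_mul_pull T p q h]
  by_cases hs : 0 ≤ s ∧ s ≤ 2 * (dim X.obj.left : ℤ)
  · obtain ⟨hs0, hs1⟩ := hs
    lift s to ℕ using hs0
    rw [Finset.sum_eq_single s]
    · have ha' : (⟨a, ha⟩ : ↥(T.gr X (s : ℤ))) = ∑ m, T.tr X (a * f s m) • e s m := by
        conv_lhs => rw [← (e s).sum_repr ⟨a, ha⟩]
        refine Finset.sum_congr rfl fun m _ => ?_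
        congr 1
        have := congrArg (fun z : ↥(T.gr X (s : ℤ)) => T.tr X ((z : T.H X) * f s m))
          ((e s).sum_repr ⟨a, ha⟩)
        simp only [Submodule.coe_sum, Submodule.coe_smul, Finset.sum_mul, smul_mul_assoc, map_sum,
          map_smul, hef, smul_eq_mul, mul_ite, mul_one, mul_zero, Finset.sum_ite_eq',
          Finset.mem_univ, if_true] at this
        exact this
      conv_lhs => rw [ha']
      simp only [map_sum, map_smul, Submodule.coe_sum, Submodule.coe_smul, Finset.sum_mul,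
        smul_mul_assoc, smul_eq_mul]
    · intro i _ hi
      refine Finset.sum_eq_zero fun m _ => ?_
      rw [T.tr_vanish X _ _ (SetLike.mul_mem_graded ha (hf i m)) (by omega), zero_mul]
    · intro h'
      simp only [Finset.mem_range, not_lt] at h'
      omega
  · have ha0 : a = 0 := eq_zero_of_vanish T (by omega) ha
    subst ha0
    rw [show (⟨(0 : T.H X), ha⟩ : ↥(T.gr X s)) = 0 from rfl]
    simp

lemma tr_pull_swap {X Y Q Q' : P.FullSubcategory} (p : Q ⟶ X) (q : Q ⟶ Y) (h : IsProd p q)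
    (p' : Q' ⟶ Y) (q' : Q' ⟶ X) (h' : IsProd p' q') (σ : Q ⟶ Q') (h₁ : σ ≫ p' = q) (h₂ : σ ≫ q' = p)
    (z : T.H Q') : T.tr Q (T.pull σ z) = T.tr Q' z := by
  obtain ⟨t, rfl⟩ := (T.kunneth p' q' h').2 z
  induction t using TensorProduct.induction_on with
  | zero => simp
  | add x y hx hy => simp only [map_add, hx, hy]
  | tmul b a =>
    show T.tr Q (T.pull σ (T.pull p' b * T.pull q' a)) = T.tr Q' (T.pull p' b * T.pull q' a)
    have hp' : T.pull σ (T.pull p' b) = T.pull q b := by rw [← AlgHom.comp_apply, ← T.pull_comp, h₁]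
    have hq' : T.pull σ (T.pull q' a) = T.pull p a := by rw [← AlgHom.comp_apply, ← T.pull_comp, h₂]
    rw [map_mul, hp', hq', tr_pull_mul_pull T p' q' h']
    have hb : b ∈ ⨆ j, T.gr Y j := by rw [(T.decomp Y).submodule_iSup_eq_top]; trivial
    clear hp'
    induction hb using Submodule.iSup_induction' with
    | mem j b hb =>
      have ha : a ∈ ⨆ i, T.gr X i := by rw [(T.decomp X).submodule_iSup_eq_top]; trivial
      clear hq'
      induction ha using Submodule.iSup_induction' with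
      | mem i a ha =>
        rw [T.gradedComm Q _ _ _ _ (T.pull_mem q j b hb) (T.pull_mem p i a ha), map_smul,
          tr_pull_mul_pull T p q h, smul_eq_mul]
        by_cases hi : i = 2 * (dim X.obj.left : ℤ)
        · rw [hi, ((Int.natAbs_even.2 (even_two_mul _)).mul_left _).neg_one_pow, one_mul, mul_comm]
        · rw [T.tr_vanish X _ _ ha hi]; simp
      | zero => simp
      | add x y _ _ hx hy => simp only [map_add, mul_add, hx, hy]
    | zero => simp
    | add x y _ _ hx hy => simp only [map_add, add_mul, hx, hy]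

/-- The trace formula for a composite of two correspondences. -/
theorem tr_mul_pull_swap {X Y Q Q' : P.FullSubcategory}
    (p : Q ⟶ X) (q : Q ⟶ Y) (hQ : IsProd p q)
    (p' : Q' ⟶ Y) (q' : Q' ⟶ X) (hQ' : IsProd p' q')
    (σ : Q ⟶ Q') (hσ₁ : σ ≫ p' = q) (hσ₂ : σ ≫ q' = p) (r : ℤ)
    (hdim : ∀ i : ℤ, ((i + (2 * (dim X.obj.left : ℤ) + r) + 2 * (dim Y.obj.left : ℤ) - 2 * (dim Q.obj.left : ℤ)) + (2 * (dim Y.obj.left : ℤ) - r) + 2 * (dim X.obj.left : ℤ) - 2 * (dim Q'.obj.left : ℤ)) = i)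
    (φ : ↥(T.gr Q (2 * (dim X.obj.left : ℤ) + r))) (ψ : ↥(T.gr Q' (2 * (dim Y.obj.left : ℤ) - r))) :
    T.tr Q ((φ : T.H Q) * T.pull σ (ψ : T.H Q')) =
      ∑ i ∈ Finset.range (2 * dim X.obj.left + 1),
        (-1 : K) ^ i * LinearMap.trace K ↥(T.gr X (i : ℤ))
          ((LinearEquiv.ofEq (T.gr X _) (T.gr X (i : ℤ)) (congrArg (T.gr X) (hdim (i : ℤ)))).toLinearMap ∘ₗ
            corr T p' q' ψ _ ∘ₗ corr T p q φ (i : ℤ)) := by
  classical
  have hd := dim_prod T p q hQ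
  have hd' := dim_prod T p' q' hQ'
  let e : (r : ℕ) → Module.Basis (Fin (Module.finrank K ↥(T.gr X (r : ℤ)))) K ↥(T.gr X (r : ℤ)) :=
    fun r => Module.finBasis K _
  choose f hf hef using fun r : ℕ => exists_dual T (X := X)
    (j := 2 * (dim X.obj.left : ℤ) - r) (by ring) (e r)
  conv_lhs => rw [eq_sum_dual T p q hQ φ e f hf (fun i a m => hef i a m)]
  rw [Finset.sum_mul, map_sum]
  refine Finset.sum_congr rfl fun i hi => ?_
  rw [Finset.sum_mul, map_sum, LinearMap.trace_eq_matrix_trace K (e i), Matrix.trace, Finset.mul_sum]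
  refine Finset.sum_congr rfl fun m _ => ?_
  rw [Matrix.diag_apply, LinearMap.toMatrix_apply]
  simp only [LinearMap.comp_apply]
  set w := corr T p q φ (i : ℤ) (e i m) with hw
  set z := corr T p' q' ψ ((i : ℤ) + (2 * (dim X.obj.left : ℤ) + r) + 2 * (dim Y.obj.left : ℤ) - 2 * (dim Q.obj.left : ℤ)) w with hz
  have hrepr : ∀ v : ↥(T.gr X (i : ℤ)), (e i).repr v m = T.tr X ((v : T.H X) * f i m) := by
    intro v
    conv_rhs => rw [← (e i).sum_repr v]
    simp only [Submodule.coe_sum, Submodule.coe_smul, Finset.sum_mul, smul_mul_assoc, map_sum,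
      map_smul, hef, smul_eq_mul, mul_ite, mul_one, mul_zero, Finset.sum_ite_eq', Finset.mem_univ,
      if_true]
  rw [hrepr]
  show _ = (-1 : K) ^ i * T.tr X ((z : T.H X) * f i m)
  have hfm : f i m ∈ T.gr X (2 * (dim Q'.obj.left : ℤ) -
      ((i : ℤ) + (2 * (dim X.obj.left : ℤ) + r) + 2 * (dim Y.obj.left : ℤ) - 2 * (dim Q.obj.left : ℤ)
        + (2 * (dim Y.obj.left : ℤ) - r))) :=
    mem_of_deg_eq T (by omega) (hf i m)
  rw [hz, tr_corr T p' q' ψ w hfm, ← tr_pull_swap T p q hQ p' q' hQ' σ hσ₁ hσ₂, map_mul (T.pull σ),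
    map_mul (T.pull σ)]
  have hp' : T.pull σ (T.pull p' (w : T.H Y)) = T.pull q (w : T.H Y) := by
    rw [← AlgHom.comp_apply, ← T.pull_comp, hσ₁]
  have hq' : T.pull σ (T.pull q' (f i m)) = T.pull p (f i m) := by
    rw [← AlgHom.comp_apply, ← T.pull_comp, hσ₂]
  rw [hp', hq', mul_assoc, T.gradedComm Q _ _ _ _ (T.pull_mem p _ _ (hf i m))
    (mul_mem T rfl (T.pull_mem q _ _ w.2) (T.pull_mem σ _ _ ψ.2)), map_smul, smul_eq_mul,
    neg_one_pow_natAbs_mul_congr (i' := (i : ℤ)) (j' := (i : ℤ))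
      (by exact ⟨dim X.obj.left, by ring⟩) (by exact ⟨(i : ℤ) + dim Y.obj.left + (dim Y.obj.left + dim X.obj.left - dim Q.obj.left), by ring⟩),
    Int.natAbs_natCast, pow_mul]
  congr 1
  rcases Nat.even_or_odd i with hi' | hi' <;> simp [hi'.neg_one_pow]

end GrothLib.WeilCoh
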