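import Groth.Agent.Lib.WeilCoh.Point
import Groth.Prelude.Def_ChowOps
import Groth.Agent.Lib.Chow.Prod

/-!
Classes of cycles.
-/

set_option linter.style.haveILetI false

universe u v w

open CategoryTheory AlgebraicGeometry

namespace GrothLib.WeilCoh

open _root_.WeilCoh

variable {k : Type u} [Field k]

lemma delta_eq_pdim (X : Var k) (δ : ↥X.obj.left → ℤ)
    (hδ : Cyc.DeltaCompat X.obj.hom δ (fun _ => 0)) (x : X.obj.left) :
    δ x = (pdim X.obj.left x : ℤ) := by
  obtain ⟨n, hn, hn'⟩ := hδ x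
  rw [hn', zero_add, Nat.cast_inj]
  have h1 := ptTrdeg_eq_pdim X x
  have h2 : GrothLib.AffDom.ptTrdeg (𝟙 (Spec (CommRingCat.of k))) (X.obj.hom x) = 0 :=
    (ptTrdeg_eq_pdim (pt k) (X.obj.hom x)).trans
      ((congrArg (Nat.cast : ℕ → Cardinal) (pdim_pt (k := k) (X.obj.hom x))).trans Nat.cast_zero)
  have hc : GrothLib.AffDom.toRes X.obj.hom x = (X.obj.hom.residueFieldMap x).hom.comp
      (GrothLib.AffDom.toRes (𝟙 (Spec (CommRingCat.of k))) (X.obj.hom x)) := by
    have h := GrothLib.AffDom.toRes_comp X.obj.hom (𝟙 (Spec (CommRingCat.of k))) x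
    rwa [Category.comp_id] at h
  unfold GrothLib.AffDom.ptTrdeg at h1 h2
  letI := (GrothLib.AffDom.toRes X.obj.hom x).toAlgebra
  letI := (GrothLib.AffDom.toRes (𝟙 (Spec (CommRingCat.of k))) (X.obj.hom x)).toAlgebra
  letI := (X.obj.hom.residueFieldMap x).hom.toAlgebra
  haveI : IsScalarTower k ((Spec (CommRingCat.of k)).residueField (X.obj.hom x))
      (X.obj.left.residueField x) := .of_algebraMap_eq' hc
  have h3 := trdeg_add_eq k ((Spec (CommRingCat.of k)).residueField (X.obj.hom x))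
    (A := X.obj.left.residueField x)
  rw [h2, zero_add, hn, h1] at h3
  exact_mod_cast h3

lemma finite_support (X : Var k) [QuasiCompact X.obj.hom] (α : AlgebraicCycle X.obj.left ℤ) :
    (Function.support ⇑α).Finite := by
  haveI : CompactSpace ↥X.obj.left := QuasiCompact.compactSpace_of_compactSpace X.obj.hom
  simpa using α.locallyFiniteSupport.finite_inter_support_of_isCompact isCompact_univ

variable {K : Type v} [Field K] (T : TheoryOn.{u, v, w} k (IsVar k) K)

lemma clCyc_eq_sum (X : Var k) (α : AlgebraicCycle X.obj.left ℤ) (s : Finset ↥X.obj.left)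
    (hs : Function.support ⇑α ⊆ s) : T.clCyc X α = ∑ x ∈ s, ((α x : ℤ) : K) • T.cl X x := by
  refine finsum_eq_sum_of_support_subset _ fun x hx => hs ?_
  intro h
  exact hx (by simp [h])

lemma deg_eq_tr_clCyc [IsAlgClosed k] (X : Var k) [QuasiCompact X.obj.hom]
    (δ : ↥X.obj.left → ℤ) (hδ : Cyc.DeltaCompat X.obj.hom δ (fun _ => 0))
    (α : AlgebraicCycle X.obj.left ℤ) (hα : α ∈ Cyc.Zk X.obj.left δ 0) :
    (ChowOps.deg X.obj.hom δ α : K) = T.tr X (T.clCyc X α) := by
  classical
  set s := (finite_support X α).toFinset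
  have hs : Function.support ⇑α ⊆ s := by simp [s]
  rw [clCyc_eq_sum T X α s hs, map_sum, show ChowOps.deg X.obj.hom δ α =
    ∑ᶠ x ∈ X.obj.hom ⁻¹' {IsLocalRing.closedPoint k},
      α x * (AlgebraicCycle.mapCoeff X.obj.hom δ (fun _ => (0 : ℤ)) x : ℤ) from rfl]
  rw [finsum_mem_eq_sum_of_inter_support_eq (t := s) _ ?_, Int.cast_sum]
  · refine Finset.sum_congr rfl fun x hx => ?_
    have hne : α x ≠ 0 := by simpa [s] using hx
    have h0 : δ x = 0 := by
      by_contra h
      exact hne (hα x h)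
    have hp : pdim X.obj.left x = 0 := by
      have := delta_eq_pdim X δ hδ x
      omega
    rw [map_smul, smul_eq_mul]
    have hr : X.obj.hom.residueDegree x = 1 := residueDegree_of_pdim_eq_zero (toPt X) x hp
    have htr : T.tr X (T.cl X x) = 1 := by
      have h := T.cl_push (toPt X) x 1 (by rw [hp]; exact SetLike.one_mem_graded (T.gr (pt k)))
      rw [map_one, mul_one, residueDegree_of_pdim_eq_zero (toPt X) x hp, cl_pt T, mul_one, tr_pt T] at h
      simpa using h
    rw [htr, mul_one]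
    simp [AlgebraicCycle.mapCoeff, h0, hr]
  · ext x
    simp only [Set.mem_inter_iff, Function.mem_support, Set.mem_preimage,
      Finset.mem_coe]
    refine ⟨fun h => ⟨by simpa [s] using left_ne_zero_of_mul h.2, h.2⟩, fun h => ⟨?_, h.2⟩⟩
    haveI : Subsingleton ↥(Spec (CommRingCat.of k)) := inferInstanceAs (Subsingleton (PrimeSpectrum k))
    exact Subsingleton.elim _ _

lemma isHomEquivZero_iff_deg [IsAlgClosed k] [CharZero K] (X : Var k) [QuasiCompact X.obj.hom]
    (δ : ↥X.obj.left → ℤ) (hδ : Cyc.DeltaCompat X.obj.hom δ (fun _ => 0))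
    (α : AlgebraicCycle X.obj.left ℤ) (hα : α ∈ Cyc.Zk X.obj.left δ 0) :
    T.IsHomEquivZero X α ↔ ChowOps.deg X.obj.hom δ α = 0 := by
  classical
  set s := (finite_support X α).toFinset
  have hs : Function.support ⇑α ⊆ s := by simp [s]
  have hmem : T.clCyc X α ∈ T.gr X (2 * (dim X.obj.left : ℤ)) := by
    rw [clCyc_eq_sum T X α s hs]
    refine Submodule.sum_mem _ fun x hx => Submodule.smul_mem _ _ ?_
    have hne : α x ≠ 0 := by simpa [s] using hx
    have h0 : δ x = 0 := by
      by_contra h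
      exact hne (hα x h)
    refine mem_of_deg_eq T ?_ (T.cl_mem X x)
    have := delta_eq_pdim X δ hδ x
    rw [codim_cast]; omega
  rw [← Int.cast_eq_zero (α := K), deg_eq_tr_clCyc T X δ hδ α hα, TheoryOn.IsHomEquivZero]
  refine ⟨fun h => by rw [h, map_zero], fun h => ?_⟩
  exact congrArg Subtype.val ((T.tr_bijective X).1 (a₁ := ⟨_, hmem⟩) (a₂ := 0)
    (by simpa [LinearMap.domRestrict_apply] using h))

lemma mapCoeff_mul_tr {X Y : Var k} (f : X ⟶ Y) (δX : ↥X.obj.left → ℤ) (δY : ↥Y.obj.left → ℤ)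
    (hX : ∀ x, δX x = (pdim X.obj.left x : ℤ)) (hY : ∀ y, δY y = (pdim Y.obj.left y : ℤ))
    (x : X.obj.left) (b : T.H Y) :
    (AlgebraicCycle.mapCoeff (sm f) δX δY x : K) * T.tr Y (T.cl Y (sm f x) * b) =
      T.tr X (T.cl X x * T.pull f b) := by
  classical
  have hb : b ∈ ⨆ i, T.gr Y i := by
    rw [(T.decomp Y).submodule_iSup_eq_top]; trivial
  induction hb using Submodule.iSup_induction' with
  | mem i b hb =>
    by_cases hi : i = 2 * (pdim X.obj.left x : ℤ)
    · rw [T.cl_push f x b (hi ▸ hb)]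
      unfold AlgebraicCycle.mapCoeff
      split_ifs with h
      · rfl
      · have h0 : (sm f).residueDegree x = 0 := by
          by_contra h0
          exact h (by rw [hX, hY]; exact_mod_cast (pdim_eq_of_residueDegree_ne_zero f x h0).symm)
        rw [h0]
    · rw [T.tr_vanish X _ _ (SetLike.mul_mem_graded (T.cl_mem X x) (T.pull_mem f i b hb))
        (by rw [codim_cast]; omega)]
      unfold AlgebraicCycle.mapCoeff
      split_ifs with h
      · rw [hX, hY, Nat.cast_inj] at h
        rw [T.tr_vanish Y _ _ (SetLike.mul_mem_graded (T.cl_mem Y _) hb)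
          (by rw [codim_cast, show pdim Y.obj.left (sm f x) = pdim X.obj.left x from h.symm]; omega),
          mul_zero]
      · rw [Nat.cast_zero, zero_mul]
  | zero => simp
  | add b c _ _ hb hc => rw [mul_add, map_add, mul_add, hb, hc, map_add, mul_add, map_add]

lemma tr_clCyc_map_mul {X Y : Var k} (f : X ⟶ Y) [QuasiCompact (sm f)] [QuasiCompact X.obj.hom]
    [QuasiCompact Y.obj.hom]
    (δX : ↥X.obj.left → ℤ) (hδX : Cyc.DeltaCompat X.obj.hom δX (fun _ => 0))
    (δY : ↥Y.obj.left → ℤ) (hδY : Cyc.DeltaCompat Y.obj.hom δY (fun _ => 0))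
    (α : AlgebraicCycle X.obj.left ℤ) (b : T.H Y) :
    T.tr Y (T.clCyc Y (AlgebraicCycle.map (sm f) δX δY α) * b) =
      T.tr X (T.clCyc X α * T.pull f b) := by
  classical
  set s := (finite_support X α).toFinset
  have hs : Function.support ⇑α ⊆ s := by simp [s]
  set g : X.obj.left → ℤ := fun x => α x * (AlgebraicCycle.mapCoeff (sm f) δX δY x : ℤ)
  have hmap : ∀ z, (AlgebraicCycle.map (sm f) δX δY α) z = ∑ x ∈ s with sm f x = z, g x := by
    intro z
    show ∑ᶠ x ∈ (sm f) ⁻¹' {z}, g x = _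
    refine finsum_mem_eq_sum_of_inter_support_eq _ ?_
    ext x
    simp only [Set.mem_inter_iff, Function.mem_support, Set.mem_preimage, Set.mem_singleton_iff,
      Finset.coe_filter, Set.mem_ofPred_eq]
    refine ⟨fun h => ⟨⟨by simpa [s] using left_ne_zero_of_mul h.2, h.1⟩, h.2⟩,
      fun h => ⟨h.1.2, h.2⟩⟩
  have hsupp : Function.support ⇑(AlgebraicCycle.map (sm f) δX δY α) ⊆
      ↑(s.image fun x => sm f x) := fun z hz => by
    rw [Function.mem_support, hmap] at hz
    obtain ⟨x, hx, -⟩ := Finset.exists_ne_zero_of_sum_ne_zero hz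
    rw [Finset.mem_filter] at hx
    exact Finset.mem_image.2 ⟨x, hx.1, hx.2⟩
  rw [clCyc_eq_sum T Y _ _ hsupp, clCyc_eq_sum T X α s hs, Finset.sum_mul, Finset.sum_mul, map_sum,
    map_sum, ← Finset.sum_fiberwise_of_maps_to (g := fun x => sm f x) (t := s.image fun x => sm f x)
      (fun x hx => Finset.mem_image_of_mem _ hx)]
  refine Finset.sum_congr rfl fun z _ => ?_
  rw [hmap, Int.cast_sum, Finset.sum_smul, Finset.sum_mul, map_sum]
  refine Finset.sum_congr rfl fun x hx => ?_
  rw [← (Finset.mem_filter.1 hx).2, smul_mul_assoc, smul_mul_assoc, map_smul, map_smul, smul_eq_mul,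
    smul_eq_mul, ← mapCoeff_mul_tr T f δX δY (delta_eq_pdim X δX hδX) (delta_eq_pdim Y δY hδY) x b]
  simp only [g, Int.cast_mul, Int.cast_natCast, mul_assoc]

end GrothLib.WeilCoh

namespace GrothLib.WeilCoh

lemma quasiCompact_hom {k : Type u} [Field k] (X : _root_.WeilCoh.Var k) : QuasiCompact X.obj.hom := by
  obtain ⟨n, i, hi, h⟩ := X.property.2.1
  haveI := GrothLib.Chow.isProper_toBase n (Spec (CommRingCat.of k))
  rw [← h]; infer_instance

end GrothLib.WeilCoh
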