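import Groth.Prelude.Def_WeilCoh
import Groth.Agent.Lib.AffDom.PointDim
import Groth.Agent.Lib.Dim.Scheme
import Mathlib

/-!
Dimensions of points of objects of `WeilCoh.Var k`.
-/

set_option linter.style.haveILetI false

universe u

open CategoryTheory AlgebraicGeometry

namespace GrothLib.WeilCoh

variable {k : Type u} [Field k]

instance locallyOfFiniteType_hom (X : WeilCoh.Var k) : LocallyOfFiniteType X.obj.hom := by
  have : Smooth X.obj.hom := X.property.1
  infer_instance

instance irreducibleSpace_left (X : WeilCoh.Var k) : IrreducibleSpace ↥X.obj.left := X.property.2.2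

lemma natDim_of_eq {T : Type u} [TopologicalSpace T] {n : ℕ} (h : topologicalKrullDim T = n) :
    WeilCoh.natDim T = n := by
  rw [WeilCoh.natDim, h]; rfl

lemma natDim_univ (T : Type u) [TopologicalSpace T] :
    WeilCoh.natDim ↥(Set.univ : Set T) = WeilCoh.natDim T := by
  rw [WeilCoh.natDim, WeilCoh.natDim,
    IsHomeomorph.topologicalKrullDim_eq _ (Homeomorph.Set.univ T).isHomeomorph]

lemma ptTrdeg_eq_pdim (X : WeilCoh.Var k) (x : X.obj.left) :
    GrothLib.AffDom.ptTrdeg X.obj.hom x = (WeilCoh.pdim X.obj.left x : Cardinal) := by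
  obtain ⟨n, h1, h2⟩ := GrothLib.AffDom.exists_dim_closure X.obj.hom x
  rw [h2, WeilCoh.pdim, natDim_of_eq h1]

lemma pdim_genericPoint (X : WeilCoh.Var k) [IrreducibleSpace ↥X.obj.left] :
    WeilCoh.pdim X.obj.left (genericPoint ↥X.obj.left) = WeilCoh.dim X.obj.left := by
  unfold WeilCoh.pdim WeilCoh.dim
  rw [genericPoint_closure, natDim_univ]

lemma exists_topologicalKrullDim (X : WeilCoh.Var k) :
    ∃ n : ℕ, topologicalKrullDim ↥X.obj.left = n := by
  obtain ⟨n, hn, -⟩ := GrothLib.Dim.exists_nat_dim_irreducible X.obj.hom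
    (S := Set.univ) isClosed_univ (IrreducibleSpace.isIrreducible_univ _)
  refine ⟨n, ?_⟩
  rw [← IsHomeomorph.topologicalKrullDim_eq _ (Homeomorph.Set.univ ↥X.obj.left).isHomeomorph]
  exact hn

lemma pdim_le_dim (X : WeilCoh.Var k) (x : X.obj.left) :
    WeilCoh.pdim X.obj.left x ≤ WeilCoh.dim X.obj.left := by
  obtain ⟨m, hm, -⟩ := GrothLib.AffDom.exists_dim_closure X.obj.hom x
  obtain ⟨n, hn⟩ := exists_topologicalKrullDim X
  have h := topologicalKrullDim_subspace_le ↥X.obj.left (closure {x})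
  rw [hm, hn] at h
  rw [WeilCoh.pdim, natDim_of_eq hm, WeilCoh.dim, natDim_of_eq hn]
  exact_mod_cast h

lemma codim_genericPoint (X : WeilCoh.Var k) [IrreducibleSpace ↥X.obj.left] :
    WeilCoh.codim X.obj.left (genericPoint ↥X.obj.left) = 0 := by
  rw [WeilCoh.codim, pdim_genericPoint, Nat.sub_self]

lemma codim_cast (X : WeilCoh.Var k) (x : X.obj.left) :
    (WeilCoh.codim X.obj.left x : ℤ) = WeilCoh.dim X.obj.left - WeilCoh.pdim X.obj.left x := by
  rw [WeilCoh.codim, Nat.cast_sub (pdim_le_dim X x)]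

lemma pdim_eq_zero_of_isClosed (X : WeilCoh.Var k) (x : X.obj.left)
    (hx : IsClosed ({x} : Set ↥X.obj.left)) : WeilCoh.pdim X.obj.left x = 0 := by
  unfold WeilCoh.pdim
  rw [hx.closure_eq]
  haveI : IrreducibleSpace ↥({x} : Set ↥X.obj.left) :=
    Subtype.irreducibleSpace isIrreducible_singleton
  have h0 : topologicalKrullDim ↥({x} : Set ↥X.obj.left) = 0 := by
    refine le_antisymm ?_ (Order.krullDim_nonneg_iff.2 ?_)
    · exact topologicalKrullDim_zero_of_discreteTopology _
    · exact ⟨⟨Set.univ, IrreducibleSpace.isIrreducible_univ _, isClosed_univ⟩⟩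
  rw [natDim_of_eq (n := 0) (by simpa using h0)]

lemma sm_comp_hom {X Y : WeilCoh.Var k} (f : X ⟶ Y) :
    WeilCoh.sm f ≫ Y.obj.hom = X.obj.hom :=
  Over.w f.hom

lemma pdim_eq_of_residueDegree_ne_zero {X Y : WeilCoh.Var k} (f : X ⟶ Y) (x : X.obj.left)
    (h : (WeilCoh.sm f).residueDegree x ≠ 0) :
    WeilCoh.pdim Y.obj.left (WeilCoh.sm f x) = WeilCoh.pdim X.obj.left x := by
  have h1 := ptTrdeg_eq_pdim X x
  have h2 := ptTrdeg_eq_pdim Y (WeilCoh.sm f x)
  have hc := GrothLib.AffDom.toRes_comp (WeilCoh.sm f) Y.obj.hom x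
  rw [sm_comp_hom] at hc
  unfold GrothLib.AffDom.ptTrdeg at h1 h2
  unfold Scheme.Hom.residueDegree at h
  letI := (GrothLib.AffDom.toRes X.obj.hom x).toAlgebra
  letI := (GrothLib.AffDom.toRes Y.obj.hom (WeilCoh.sm f x)).toAlgebra
  letI := ((WeilCoh.sm f).residueFieldMap x).hom.toAlgebra
  haveI : IsScalarTower k (Y.obj.left.residueField (WeilCoh.sm f x)) (X.obj.left.residueField x) :=
    .of_algebraMap_eq' hc
  haveI : Module.Finite (Y.obj.left.residueField (WeilCoh.sm f x)) (X.obj.left.residueField x) :=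
    Module.finite_of_finrank_pos (Nat.pos_of_ne_zero h)
  have := GrothLib.Dim.trdeg_eq_of_algebraic (k := k) (A := Y.obj.left.residueField (WeilCoh.sm f x))
    (B := X.obj.left.residueField x)
  exact_mod_cast h2.symm.trans (this.symm.trans h1)

lemma residueDegree_section {X Y : WeilCoh.Var k} (s : X ⟶ Y) (r : Y ⟶ X) (h : s ≫ r = 𝟙 X)
    (x : X.obj.left) : (WeilCoh.sm s).residueDegree x = 1 := by
  have hsr : WeilCoh.sm s ≫ WeilCoh.sm r = 𝟙 X.obj.left := congrArg (fun φ => φ.hom.left) h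
  have hsurj : Function.Surjective ((WeilCoh.sm s).residueFieldMap x).hom := by
    have hs : Function.Surjective ((WeilCoh.sm s ≫ WeilCoh.sm r).residueFieldMap x).hom := by
      haveI : IsPreimmersion (WeilCoh.sm s ≫ WeilCoh.sm r) := by rw [hsr]; infer_instance
      exact GrothLib.AffDom.residueFieldMap_surjective _ x
    rw [Scheme.residueFieldMap_comp] at hs
    exact Function.Surjective.of_comp hs
  unfold Scheme.Hom.residueDegree
  algebraize [((WeilCoh.sm s).residueFieldMap x).hom]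
  haveI : Nontrivial (X.obj.left.residueField x) := inferInstance
  exact (AlgEquiv.ofBijective (Algebra.ofId _ _) ⟨RingHom.injective _, hsurj⟩).toLinearEquiv.finrank_eq.symm.trans
    (Module.finrank_self _)

lemma residueDegree_of_pdim_eq_zero [IsAlgClosed k] {X Y : WeilCoh.Var k} (f : X ⟶ Y)
    (x : X.obj.left) (hx : WeilCoh.pdim X.obj.left x = 0) :
    (WeilCoh.sm f).residueDegree x = 1 := by
  have h1 := ptTrdeg_eq_pdim X x
  rw [hx, Nat.cast_zero] at h1
  have hc := GrothLib.AffDom.toRes_comp (WeilCoh.sm f) Y.obj.hom x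
  rw [sm_comp_hom] at hc
  unfold GrothLib.AffDom.ptTrdeg at h1
  have hsurj : Function.Surjective (GrothLib.AffDom.toRes X.obj.hom x) := by
    letI := (GrothLib.AffDom.toRes X.obj.hom x).toAlgebra
    have : Algebra.IsAlgebraic k (X.obj.left.residueField x) :=
      trdeg_eq_zero_iff.1 h1
    exact (IsAlgClosed.algebraMap_bijective_of_isIntegral (k := k)).2
  rw [hc] at hsurj
  have hs : Function.Surjective ((WeilCoh.sm f).residueFieldMap x).hom :=
    Function.Surjective.of_comp hsurj
  unfold Scheme.Hom.residueDegree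
  algebraize [((WeilCoh.sm f).residueFieldMap x).hom]
  exact (AlgEquiv.ofBijective (Algebra.ofId _ _) ⟨RingHom.injective _, hs⟩).toLinearEquiv.finrank_eq.symm.trans
    (Module.finrank_self _)

lemma residueDegree_of_isClosed [IsAlgClosed k] {X Y : WeilCoh.Var k} (f : X ⟶ Y) (x : X.obj.left)
    (hx : IsClosed ({x} : Set ↥X.obj.left)) : (WeilCoh.sm f).residueDegree x = 1 :=
  residueDegree_of_pdim_eq_zero f x (pdim_eq_zero_of_isClosed X x hx)

end GrothLib.WeilCoh
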