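import Groth.Agent.Lib.WeilCoh.Kunneth

/-!
Dual bases and the description of correspondences.
-/

set_option linter.style.haveILetI false

universe u v w

open CategoryTheory AlgebraicGeometry

namespace GrothLib.WeilCoh

open _root_.WeilCoh

variable {k : Type u} [Field k] {P : ObjectProperty (Over (Spec (CommRingCat.of k)))}
variable {K : Type v} [Field K] (T : TheoryOn.{u, v, w} k P K)

/-- Dual basis for the Poincaré pairing. -/
lemma exists_dual {X : P.FullSubcategory} {ι : Type*} [DecidableEq ι] {i j : ℤ}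
    (hij : i + j = 2 * (dim X.obj.left : ℤ)) (e : Module.Basis ι K ↥(T.gr X i)) :
    ∃ f : ι → T.H X, (∀ m, f m ∈ T.gr X j) ∧
      ∀ l m, T.tr X ((e l : T.H X) * f m) = if l = m then 1 else 0 := by
  haveI := T.duality X i j hij
  choose f hf using fun m => (LinearMap.IsPerfPair.bijective_right
    (pairing K (T.gr X i) (T.gr X j) (T.tr X))).2 (e.coord m)
  refine ⟨fun m => (f m : T.H X), fun m => (f m).2, fun l m => ?_⟩
  have h : T.tr X ((e l : T.H X) * (f m : T.H X)) = e.coord m (e l) := congr($(hf m) (e l))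
  rw [h, Module.Basis.coord_apply, Module.Basis.repr_self, Finsupp.single_apply]

/-- Coordinates with respect to a dual basis. -/
lemma repr_eq_tr {X : P.FullSubcategory} {ι : Type*} [Fintype ι] [DecidableEq ι] {i : ℤ}
    (e : Module.Basis ι K ↥(T.gr X i)) (f : ι → T.H X)
    (hef : ∀ l m, T.tr X (f m * (e l : T.H X)) = if l = m then 1 else 0)
    (v : ↥(T.gr X i)) (m : ι) : T.tr X (f m * (v : T.H X)) = e.repr v m := by
  conv_lhs => rw [← e.sum_repr v]
  simp only [Submodule.coe_sum, Submodule.coe_smul, Finset.mul_sum, mul_smul_comm, map_sum, map_smul,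
    hef, smul_eq_mul, mul_ite, mul_one, mul_zero, Finset.sum_ite_eq', Finset.mem_univ, if_true]

/-- Correspondences of degree `r` are the families of maps raising the degree by `r`. -/
theorem bijective_corr {X Y Q : P.FullSubcategory} (p : Q ⟶ X) (q : Q ⟶ Y) (h : IsProd p q) (r : ℤ) :
    Function.Bijective (fun φ : ↥(T.gr Q (2 * (dim X.obj.left : ℤ) + r)) => fun i : ℤ =>
      (T.push q (i + (2 * (dim X.obj.left : ℤ) + r))) ∘ₗ
        ((LinearMap.mulRight K (φ : T.H Q)).restrict (p := T.gr Q i)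
          (q := T.gr Q (i + (2 * (dim X.obj.left : ℤ) + r)))
          (fun _ hx => SetLike.mul_mem_graded hx φ.2)) ∘ₗ
        (T.pullDeg p i)) := by
  classical
  have hd := dim_prod T p q h
  refine ⟨fun φ φ' hφ => Subtype.ext ?_, fun L => ?_⟩
  · refine eq_of_tr_pull_mul_pull T p q h φ.2 φ'.2 fun i j hij a ha b hb => ?_
    have hb' : b ∈ T.gr Y (2 * (dim Q.obj.left : ℤ) - (i + (2 * (dim X.obj.left : ℤ) + r))) :=
      mem_of_deg_eq T (by omega) hb
    have hpa := T.pull_mem p i a ha
    have e : T.tr Q (T.pull p a * (φ : T.H Q) * T.pull q b)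
        = T.tr Q (T.pull p a * (φ' : T.H Q) * T.pull q b) := by
      rw [← tr_corr_mul T p q i _ ⟨a, ha⟩ φ hb', ← tr_corr_mul T p q i _ ⟨a, ha⟩ φ' hb']
      exact congrArg (fun z : T.H Y => T.tr Y (z * b))
        (congrArg Subtype.val (LinearMap.congr_fun (congrFun hφ i) ⟨a, ha⟩))
    rw [← mul_assoc, ← mul_assoc, T.gradedComm Q _ _ _ _ φ.2 hpa, T.gradedComm Q _ _ _ _ φ'.2 hpa,
      smul_mul_assoc, smul_mul_assoc, map_smul, map_smul, e]
  · let e : ∀ i : ℤ, Module.Basis (Fin (Module.finrank K ↥(T.gr X i))) K ↥(T.gr X i) :=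
      fun i => Module.finBasis K ↥(T.gr X i)
    choose f hf hef using fun i : ℤ => exists_dual T (X := X)
      (j := 2 * (dim X.obj.left : ℤ) - i) (by ring) (e i)
    let s : Finset ℤ := Finset.Icc 0 (2 * (dim X.obj.left : ℤ))
    have hmem : ∀ i m, T.pull p (f i m) * T.pull q (L i (e i m) : T.H Y) ∈
        T.gr Q (2 * (dim X.obj.left : ℤ) + r) := fun i m =>
      mul_mem T (by omega) (T.pull_mem p _ _ (hf i m)) (T.pull_mem q _ _ (L i (e i m)).2)
    refine ⟨⟨∑ i ∈ s, ∑ m, T.pull p (f i m) * T.pull q (L i (e i m) : T.H Y),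
      Submodule.sum_mem _ fun i _ => Submodule.sum_mem _ fun m _ => hmem i m⟩, funext fun j => ?_⟩
    refine (e j).ext fun l => Subtype.ext ?_
    refine push_eq T q _ _ (mem_of_deg_eq T ?_ (L j (e j l)).2) fun b hb => ?_
    · omega
    show _ = T.tr Q (T.pull p (e j l : T.H X) *
      (∑ i ∈ s, ∑ m, T.pull p (f i m) * T.pull q (L i (e i m) : T.H Y)) * T.pull q b)
    simp only [Finset.mul_sum, Finset.sum_mul, map_sum, ← mul_assoc, ← map_mul (T.pull p)]
    simp only [mul_assoc, ← map_mul (T.pull q), tr_pull_mul_pull T p q h]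
    rw [Finset.sum_eq_single j]
    · rw [Finset.sum_eq_single l]
      · rw [hef, if_pos rfl, one_mul]
      · intro m _ hm
        rw [hef, if_neg hm.symm, zero_mul]
      · simp
    · intro i _ hij
      refine Finset.sum_eq_zero fun m _ => ?_
      rw [T.tr_vanish X _ _ (SetLike.mul_mem_graded (e j l).2 (hf i m)) (by omega), zero_mul]
    · intro hj
      exfalso
      apply (e j).ne_zero l
      apply Subtype.ext
      refine eq_zero_of_vanish T ?_ (e j l).2
      simp only [s, Finset.mem_Icc, not_and, not_le] at hj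
      by_cases h0 : j < 0
      · exact Or.inl h0
      · exact Or.inr (hj (not_lt.1 h0))

end GrothLib.WeilCoh
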