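import Groth.Agent.Lib.WeilCoh.Point
import Groth.Agent.Lib.WeilCoh.PowDegree
import Groth.Agent.Lib.Dim.QuasiFinite

/-!
The degree of a geometric Frobenius endomorphism at the generic point.
-/

set_option linter.style.haveILetI false

universe u v w

open CategoryTheory Limits AlgebraicGeometry

namespace GrothLib.WeilCoh

open _root_.WeilCoh GrothLib.AffDom

/-- The residue field of a point of a base change to a field is generated by the images of the two
residue fields. -/
lemma residueField_eq_top {k₀ k : Type u} [Field k₀] [Field k] {X Xb : Scheme.{u}}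
    {f : X ⟶ Spec (CommRingCat.of k₀)} {π : Xb ⟶ X} {g : Xb ⟶ Spec (CommRingCat.of k)}
    {h : Spec (CommRingCat.of k) ⟶ Spec (CommRingCat.of k₀)} (hπ : IsPullback π g f h) (z : Xb)
    (M : Subfield (Xb.residueField z)) (h1 : ∀ a, π.residueFieldMap z a ∈ M)
    (h2 : ∀ c, toRes g z c ∈ M) : M = ⊤ := by
  let incl : CommRingCat.of M ⟶ Xb.residueField z := CommRingCat.ofHom M.subtype
  let a : X.residueField (π z) ⟶ CommRingCat.of M :=
    CommRingCat.ofHom ((π.residueFieldMap z).hom.codRestrict M h1)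
  let b : CommRingCat.of k ⟶ CommRingCat.of M := CommRingCat.ofHom ((toRes g z).codRestrict M h2)
  have ha : Spec.map incl ≫ Spec.map a ≫ X.fromSpecResidueField (π z) =
      Xb.fromSpecResidueField z ≫ π := by
    rw [← Spec.map_comp_assoc,
      show a ≫ incl = π.residueFieldMap z from CommRingCat.hom_ext (RingHom.ext fun _ => rfl),
      Scheme.Hom.SpecMap_residueFieldMap_fromSpecResidueField]
  have hb : Spec.map incl ≫ Spec.map b = Xb.fromSpecResidueField z ≫ g := by
    rw [← Spec.map_comp,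
      show b ≫ incl = CommRingCat.ofHom (toRes g z) from CommRingCat.hom_ext (RingHom.ext fun _ => rfl),
      SpecMap_toRes]
  have hsq : (Spec.map a ≫ X.fromSpecResidueField (π z)) ≫ f = Spec.map b ≫ h := by
    obtain ⟨φ₁, e1⟩ : ∃ φ, Spec.map φ = (Spec.map a ≫ X.fromSpecResidueField (π z)) ≫ f :=
      ⟨_, Spec.map_preimage _⟩
    obtain ⟨φ₂, e2⟩ : ∃ φ, Spec.map φ = Spec.map b ≫ h := ⟨_, Spec.map_preimage _⟩
    have : φ₁ ≫ incl = φ₂ ≫ incl := by
      apply Spec.map_injective
      rw [Spec.map_comp, Spec.map_comp, e1, e2, ← Category.assoc, ha, ← Category.assoc, hb,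
        Category.assoc, Category.assoc, hπ.w]
    rw [← e1, ← e2]
    exact congrArg _ (CommRingCat.hom_ext (RingHom.ext fun x => Subtype.ext congr($this x)))
  let t := hπ.lift (Spec.map a ≫ X.fromSpecResidueField (π z)) (Spec.map b) hsq
  have ht : Spec.map incl ≫ t = Xb.fromSpecResidueField z := by
    apply hπ.hom_ext
    · rw [Category.assoc, hπ.lift_fst, ha]
    · rw [Category.assoc, hπ.lift_snd, hb]
  obtain ⟨⟨w, φ⟩, hw⟩ := (Scheme.SpecToEquivOfField M Xb).symm.surjective t
  have h3 : (Scheme.SpecToEquivOfField (Xb.residueField z) Xb).symm ⟨w, φ ≫ incl⟩ =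
      (Scheme.SpecToEquivOfField (Xb.residueField z) Xb).symm ⟨z, 𝟙 _⟩ := by
    show Spec.map (φ ≫ incl) ≫ Xb.fromSpecResidueField w = Spec.map (𝟙 _) ≫ Xb.fromSpecResidueField z
    rw [Spec.map_id, Category.id_comp, Spec.map_comp, Category.assoc]
    rw [show Spec.map φ ≫ Xb.fromSpecResidueField w = t from hw, ht]
  obtain ⟨e, he⟩ := Scheme.SpecToEquivOfField_eq_iff.1
    ((Scheme.SpecToEquivOfField (Xb.residueField z) Xb).symm.injective h3)
  dsimp only at e he
  rw [Category.comp_id] at he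
  rw [eq_top_iff]
  intro y _
  subst e
  have := congr($he y)
  simp only [Scheme.residueFieldCongr_refl, Iso.refl_hom] at this
  rw [← show incl (φ y) = y from this]
  exact (φ y).2

/-- Every element of a residue field is the value of a section. -/
lemma exists_evaluation {X : Scheme.{u}} (x : X) (a : X.residueField x) :
    ∃ (U : X.Opens) (hx : x ∈ U) (s : Γ(X, U)), X.evaluation U x hx s = a := by
  obtain ⟨c, rfl⟩ := X.residue_surjective x a
  obtain ⟨U, hx, s, rfl⟩ := X.presheaf.exists_germ_eq c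
  exact ⟨U, hx, s, rfl⟩

/-- An absolute Frobenius raises residue classes to the power `q`. -/
lemma residueFieldMap_absFrob {X : Scheme.{u}} (FX : X ⟶ X) (hFb : FX.base = 𝟙 _)
    (hle : ∀ U : X.Opens, U ≤ FX ⁻¹ᵁ U) (q : ℕ)
    (hFapp : ∀ (U : X.Opens) (s : Γ(X, U)), (FX.appLE U U (hle U)).hom s = s ^ q) (y : X) :
    (∀ b, ∃ a, FX.residueFieldMap y b = a ^ q) ∧ ∀ a, ∃ b, FX.residueFieldMap y b = a ^ q := by
  have hy : FX y = y := congr($hFb y)
  have key : ∀ (U : X.Opens) (h1 : FX y ∈ U) (h2 : y ∈ U) (s : Γ(X, U)),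
      FX.residueFieldMap y (X.evaluation U (FX y) h1 s) = (X.evaluation U y h2 s) ^ q := by
    intro U h1 h2 s
    rw [Scheme.evaluation_naturality_apply, ← map_pow, ← hFapp, Scheme.Hom.appLE,
      CommRingCat.comp_apply]
    simp only [Scheme.evaluation, CommRingCat.comp_apply]
    congr 1
    exact (X.presheaf.germ_res_apply _ _ h2 _).symm
  refine ⟨fun b => ?_, fun a => ?_⟩
  · obtain ⟨U, hU, s, rfl⟩ := exists_evaluation _ b
    exact ⟨_, key U hU (by rwa [hy] at hU) s⟩
  · obtain ⟨U, hU, s, rfl⟩ := exists_evaluation _ a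
    exact ⟨_, key U (by rwa [hy]) hU s⟩

lemma range_residueFieldMap_congr {X Y : Scheme.{u}} {f g : X ⟶ Y} (h : f = g) (x : X) :
    Set.range (f.residueFieldMap x) = Set.range (g.residueFieldMap x) := by subst h; rfl

/-- Residue fields are finitely generated. -/
lemma exists_generators {k : Type u} [Field k] {X : Scheme.{u}} (f : X ⟶ Spec (CommRingCat.of k))
    [LocallyOfFiniteType f] (x : X) :
    letI := (toRes f x).toAlgebra
    ∃ s : Set (X.residueField x), s.Finite ∧ IntermediateField.adjoin k s = ⊤ := by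
  classical
  letI := (toRes f x).toAlgebra
  obtain ⟨_, ⟨U, hU, rfl⟩, hxU, -⟩ :=
    X.isBasis_affineOpens.exists_subset_of_mem_open (Set.mem_univ x) isOpen_univ
  have hU : IsAffineOpen U := hU
  obtain ⟨ψ, hψ, hψ'⟩ := GrothLib.Dim.exists_finiteType_specMap f hU
  have hev : CommRingCat.ofHom (toRes f x) = ψ ≫ X.evaluation U x hxU := by
    apply Spec.map_injective
    rw [SpecMap_toRes, Spec.map_comp, ← hψ', Scheme.evaluation, Spec.map_comp, Category.assoc,
      Scheme.fromSpecResidueField, Category.assoc]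
    congr 1
    rw [← Category.assoc]
    congr 1
    rw [← IsAffineOpen.fromSpecStalk_eq_fromSpecStalk hU hxU]
    rfl
  let ev : Γ(X, U) →+* X.residueField x := (X.evaluation U x hxU).hom
  letI := ψ.hom.toAlgebra
  haveI : Algebra.FiniteType k Γ(X, U) := hψ
  obtain ⟨G, hG⟩ := Algebra.FiniteType.out (R := k) (A := Γ(X, U))
  refine ⟨ev '' G, G.finite_toSet.image _, eq_top_iff.2 fun a _ => ?_⟩
  set E := IntermediateField.adjoin k (ev '' G)
  have hmem : ∀ r, ev r ∈ E := by
    intro r
    have hr : r ∈ Algebra.adjoin k (G : Set Γ(X, U)) := hG ▸ Algebra.mem_top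
    induction hr using Algebra.adjoin_induction with
    | mem g hg => exact IntermediateField.subset_adjoin k _ ⟨g, hg, rfl⟩
    | algebraMap c =>
      have : ev (algebraMap k Γ(X, U) c) = toRes f x c := congr($hev c).symm
      rw [this]
      exact E.algebraMap_mem c
    | add _ _ _ _ ha hb => rw [map_add]; exact add_mem ha hb
    | mul _ _ _ _ ha hb => rw [map_mul]; exact MulMemClass.mul_mem ha hb
  obtain ⟨c, rfl⟩ := X.residue_surjective x a
  letI := X.presheaf.algebra_section_stalk ⟨x, hxU⟩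
  haveI := hU.isLocalization_stalk ⟨x, hxU⟩
  obtain ⟨r, s, rfl⟩ := IsLocalization.exists_mk'_eq (hU.primeIdealOf ⟨x, hxU⟩).asIdeal.primeCompl c
  have hs : IsUnit (algebraMap Γ(X, U) (X.presheaf.stalk x) s) :=
    IsLocalization.map_units (X.presheaf.stalk x) s
  have e : (X.residue x) (IsLocalization.mk' (X.presheaf.stalk x) r s) * ev s = ev r := by
    show (X.residue x) _ * (X.residue x) (algebraMap Γ(X, U) (X.presheaf.stalk x) s) =
      (X.residue x) (algebraMap Γ(X, U) (X.presheaf.stalk x) r)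
    rw [← map_mul, IsLocalization.mk'_spec]
  have hne : ev s ≠ 0 := (hs.map (X.residue x).hom).ne_zero
  rw [← div_eq_of_eq_mul hne e.symm]
  exact div_mem (hmem r) (hmem s)

variable {k₀ : Type u} [Field k₀] [Finite k₀] {k : Type u} [Field k] [IsAlgClosed k] [Algebra k₀ k]

theorem residueDegree_frobenius {X : Scheme.{u}} (f : X ⟶ Spec (CommRingCat.of k₀))
    (FX : X ⟶ X) (hFb : FX.base = 𝟙 _) (hle : ∀ U : X.Opens, U ≤ FX ⁻¹ᵁ U)
    (hFapp : ∀ (U : X.Opens) (s : Γ(X, U)), (FX.appLE U U (hle U)).hom s = s ^ Nat.card k₀)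
    (Xb : Var k) (π : Xb.obj.left ⟶ X)
    (hπ : IsPullback π Xb.obj.hom f (Spec.map (CommRingCat.ofHom (algebraMap k₀ k))))
    (F : Xb ⟶ Xb) (hF : sm F ≫ π = π ≫ FX) [IrreducibleSpace ↥Xb.obj.left] :
    (sm F).residueDegree (genericPoint ↥Xb.obj.left) = Nat.card k₀ ^ dim Xb.obj.left ∧
      sm F (genericPoint ↥Xb.obj.left) = genericPoint ↥Xb.obj.left := by
  classical
  have : Fintype k₀ := Fintype.ofFinite k₀
  obtain ⟨p, hp⟩ := CharP.exists k₀
  obtain ⟨e, hpp, hcard⟩ := FiniteField.card k₀ p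
  haveI := Fact.mk hpp
  have hq : Nat.card k₀ = p ^ (e : ℕ) := by rw [Nat.card_eq_fintype_card, hcard]
  haveI : CharP k p := charP_of_injective_algebraMap (algebraMap k₀ k).injective p
  haveI : ExpChar k p := ExpChar.prime hpp
  set η := genericPoint ↥Xb.obj.left with hη
  set L := Xb.obj.left.residueField η
  letI algL : Algebra k L := (toRes Xb.obj.hom η).toAlgebra
  haveI : ExpChar L p := expChar_of_injective_ringHom (algebraMap k L).injective p
  set q := p ^ (e : ℕ)
  have h0 : 0 < q := pow_pos hpp.pos _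
  have hperf : Function.Surjective fun c : k => c ^ q := fun c => IsAlgClosed.exists_pow_nat_eq c h0
  let ψ : Xb.obj.left.residueField (sm F η) →+* L := ((sm F).residueFieldMap η).hom
  set φ := iterateFrobenius L p (e : ℕ)
  have hc : toRes Xb.obj.hom η = ψ.comp (toRes Xb.obj.hom (sm F η)) := by
    have h := toRes_comp (sm F) Xb.obj.hom η
    rwa [sm_comp_hom] at h
  have hφ : ∀ a : L, φ a = a ^ q := fun a => iterateFrobenius_def p (e : ℕ) a
  obtain ⟨hFX1, hFX2⟩ := residueFieldMap_absFrob FX hFb hle q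
    (fun U s => by rw [hFapp, hq]) (π η)
  have hrange : Set.range (fun a => ψ (π.residueFieldMap (sm F η) a)) =
      Set.range fun a => π.residueFieldMap η (FX.residueFieldMap (π η) a) := by
    have h := range_residueFieldMap_congr hF η
    simp only [Scheme.residueFieldMap_comp] at h
    exact h
  have h1 : ψ.fieldRange ≤ φ.fieldRange := by
    have htop := residueField_eq_top hπ (sm F η) (φ.fieldRange.comap ψ) (fun a => ?_) (fun c => ?_)
    · rintro _ ⟨b, rfl⟩
      exact (show b ∈ φ.fieldRange.comap ψ from htop ▸ trivial)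
    · obtain ⟨a', ha'⟩ := hrange.le ⟨a, rfl⟩
      obtain ⟨a'', ha''⟩ := hFX1 a'
      refine ⟨π.residueFieldMap η a'', ?_⟩
      rw [hφ, ← map_pow, ← ha'']
      exact ha'
    · obtain ⟨r, rfl⟩ := hperf c
      refine ⟨toRes Xb.obj.hom η r, ?_⟩
      rw [hφ, ← map_pow, hc]; rfl
  have h2 : φ.fieldRange ≤ ψ.fieldRange := by
    have htop := residueField_eq_top hπ η (ψ.fieldRange.comap φ) (fun a => ?_) (fun c => ?_)
    · rintro _ ⟨b, rfl⟩
      exact (show b ∈ ψ.fieldRange.comap φ from htop ▸ trivial)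
    · obtain ⟨b, hb⟩ := hFX2 a
      obtain ⟨b', hb'⟩ := hrange.ge ⟨b, rfl⟩
      refine ⟨π.residueFieldMap (sm F η) b', ?_⟩
      rw [hφ, ← map_pow, ← hb]
      exact hb'
    · refine ⟨toRes Xb.obj.hom (sm F η) (c ^ q), ?_⟩
      rw [hφ, ← map_pow, hc]; rfl
  have hdeg : (sm F).residueDegree η = q ^ dim Xb.obj.left := by
    obtain ⟨s, hs, hst⟩ := exists_generators Xb.obj.hom η
    have htr : Algebra.trdeg k L = (dim Xb.obj.left : ℕ) := by
      have h := ptTrdeg_eq_pdim Xb η
      rwa [hη, pdim_genericPoint] at h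
    rw [← finrank_iterateFrobenius_fieldRange k p (e : ℕ) hs hst htr h0 hperf]
    unfold Scheme.Hom.residueDegree
    letI := ψ.toAlgebra
    refine Algebra.finrank_eq_of_equiv_equiv
      ((RingEquiv.ofBijective ψ.rangeRestrictField ⟨ψ.rangeRestrictField.injective, ?_⟩).trans
        (RingEquiv.subfieldCongr (le_antisymm h1 h2))) (RingEquiv.refl L) ?_
    · rintro ⟨_, b, rfl⟩; exact ⟨b, rfl⟩
    · ext b; rfl
  rw [← hq] at hdeg
  refine ⟨hdeg, ?_⟩
  have hp' : pdim Xb.obj.left (sm F η) = dim Xb.obj.left :=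
    (pdim_eq_of_residueDegree_ne_zero F η (by rw [hdeg]; exact pow_ne_zero _ Nat.card_pos.ne')).trans
      (by rw [hη, pdim_genericPoint])
  obtain ⟨n, hn, -⟩ := exists_dim_closure Xb.obj.hom (sm F η)
  obtain ⟨N, hN⟩ := exists_topologicalKrullDim Xb
  have hnN : n = N := by
    rw [pdim, natDim_of_eq hn, dim, natDim_of_eq hN] at hp'
    exact hp'
  have := GrothLib.Dim.eq_univ_of_dim_le isClosed_closure (by rw [hn, hN, hnN]) hn
  exact ((isGenericPoint_def.2 this : IsGenericPoint (sm F η) Set.univ)).eq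
    (genericPoint_spec ↥Xb.obj.left)

end GrothLib.WeilCoh
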