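import Groth.Agent.Lib.WeilCoh.Basic

/-!
The Künneth decomposition by degrees and correspondences.
-/

set_option linter.style.haveILetI false

universe u v w

open CategoryTheory AlgebraicGeometry

namespace GrothLib.WeilCoh

open _root_.WeilCoh

variable {k : Type u} [Field k] {P : ObjectProperty (Over (Spec (CommRingCat.of k)))}
variable {K : Type v} [Field K] (T : TheoryOn.{u, v, w} k P K)

lemma eq_zero_of_vanish {X : P.FullSubcategory} {i : ℤ}
    (hi : i < 0 ∨ 2 * (dim X.obj.left : ℤ) < i) {a : T.H X} (ha : a ∈ T.gr X i) : a = 0 :=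
  (Submodule.eq_bot_iff _).1 (T.vanish X i hi) _ ha

lemma tr_pull_mul_pull_aux {X Y Q : P.FullSubcategory} (p : Q ⟶ X) (q : Q ⟶ Y) (h : IsProd p q)
    {i j : ℤ} {a : T.H X} (ha : a ∈ T.gr X i) {b : T.H Y} (hb : b ∈ T.gr Y j) :
    T.tr Q (T.pull p a * T.pull q b) = T.tr X a * T.tr Y b := by
  have hd := dim_prod T p q h
  by_cases h' : i = 2 * (dim X.obj.left : ℤ) ∧ j = 2 * (dim Y.obj.left : ℤ)
  · exact T.tr_prod p q h a b (h'.1 ▸ ha) (h'.2 ▸ hb)
  have h0 : T.tr X a * T.tr Y b = 0 := by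
    rcases not_and_or.1 h' with hi | hj
    · rw [T.tr_vanish X i a ha hi, zero_mul]
    · rw [T.tr_vanish Y j b hb hj, mul_zero]
  rw [h0]
  by_cases hs : i + j = 2 * (dim Q.obj.left : ℤ)
  · rcases lt_trichotomy i (2 * (dim X.obj.left : ℤ)) with hi | hi | hi
    · rw [eq_zero_of_vanish T (Or.inr (by omega)) hb, map_zero, mul_zero, map_zero]
    · exact absurd ⟨hi, by omega⟩ h'
    · rw [eq_zero_of_vanish T (Or.inr hi) ha, map_zero, zero_mul, map_zero]
  · exact T.tr_vanish Q _ _ (SetLike.mul_mem_graded (T.pull_mem p i a ha) (T.pull_mem q j b hb)) hs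

/-- The trace of a product is multiplicative on all classes. -/
lemma tr_pull_mul_pull {X Y Q : P.FullSubcategory} (p : Q ⟶ X) (q : Q ⟶ Y) (h : IsProd p q)
    (a : T.H X) (b : T.H Y) :
    T.tr Q (T.pull p a * T.pull q b) = T.tr X a * T.tr Y b := by
  have ha : a ∈ ⨆ i, T.gr X i := by rw [(T.decomp X).submodule_iSup_eq_top]; trivial
  induction ha using Submodule.iSup_induction' with
  | mem i a ha =>
    have hb : b ∈ ⨆ j, T.gr Y j := by rw [(T.decomp Y).submodule_iSup_eq_top]; trivial
    induction hb using Submodule.iSup_induction' with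
    | mem j b hb => exact tr_pull_mul_pull_aux T p q h ha hb
    | zero => simp
    | add b c _ _ hb hc => rw [map_add, mul_add, map_add, hb, hc, map_add, mul_add]
  | zero => simp
  | add a c _ _ ha hc => rw [map_add, add_mul, map_add, ha, hc, map_add, add_mul]

/-- Classes of degree `n` on a product are sums of products of classes pulled back from the factors
of degrees adding up to `n`. -/
lemma mem_span_pull_mul_pull {X Y Q : P.FullSubcategory} (p : Q ⟶ X) (q : Q ⟶ Y) (h : IsProd p q)
    {n : ℤ} {c : T.H Q} (hc : c ∈ T.gr Q n) :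
    c ∈ Submodule.span K {z : T.H Q | ∃ i j : ℤ, i + j = n ∧ ∃ a ∈ T.gr X i, ∃ b ∈ T.gr Y j,
      T.pull p a * T.pull q b = z} := by
  classical
  set S : ℤ → Submodule K (T.H Q) := fun n => Submodule.span K {z : T.H Q | ∃ i j : ℤ, i + j = n ∧
      ∃ a ∈ T.gr X i, ∃ b ∈ T.gr Y j, T.pull p a * T.pull q b = z} with hS
  have hle : ∀ m, S m ≤ T.gr Q m := fun m => Submodule.span_le.2 (by
    rintro _ ⟨i, j, hij, a, ha, b, hb, rfl⟩
    exact mul_mem T hij (T.pull_mem p i a ha) (T.pull_mem q j b hb))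
  have hgen : ∀ a b, T.pull p a * T.pull q b ∈ ⨆ m, S m := by
    intro a b
    have ha : a ∈ ⨆ i, T.gr X i := by rw [(T.decomp X).submodule_iSup_eq_top]; trivial
    induction ha using Submodule.iSup_induction' with
    | mem i a ha =>
      have hb : b ∈ ⨆ j, T.gr Y j := by rw [(T.decomp Y).submodule_iSup_eq_top]; trivial
      induction hb using Submodule.iSup_induction' with
      | mem j b hb =>
        exact Submodule.mem_iSup_of_mem (i + j) (Submodule.subset_span ⟨i, j, rfl, a, ha, b, hb, rfl⟩)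
      | zero => simp
      | add b c _ _ hb hc => rw [map_add, mul_add]; exact add_mem hb hc
    | zero => simp
    | add a c _ _ ha hc => rw [map_add, add_mul]; exact add_mem ha hc
  have htop : ⨆ m, S m = ⊤ := by
    rw [eq_top_iff]
    intro z
    rintro -
    obtain ⟨t, rfl⟩ := (T.kunneth p q h).2 z
    induction t using TensorProduct.induction_on with
    | zero => simp
    | tmul a b => exact hgen a b
    | add x y hx hy => rw [map_add]; exact add_mem hx hy
  -- independence
  have hc' : c ∈ (⨆ m, S m : Submodule K (T.H Q)) := htop ▸ trivial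
  obtain ⟨f, hf, rfl⟩ := (Submodule.mem_iSup_iff_exists_finsupp _ _).1 hc'
  have hrest : ∑ m ∈ f.support.erase n, f m ∈ ⨆ (m) (_ : m ≠ n), T.gr Q m :=
    Submodule.sum_mem _ fun m hm => Submodule.mem_iSup_of_mem m
      (Submodule.mem_iSup_of_mem (Finset.ne_of_mem_erase hm) (hle m (hf m)))
  have hsum : f.sum (fun _ v => v) = f n + ∑ m ∈ f.support.erase n, f m := by
    rw [Finsupp.sum]
    by_cases hn : n ∈ f.support
    · exact (Finset.add_sum_erase _ _ hn).symm
    · rw [Finset.erase_eq_of_notMem hn, Finsupp.notMem_support_iff.1 hn, zero_add]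
  rw [hsum] at hc ⊢
  have hr' : ∑ m ∈ f.support.erase n, f m ∈ T.gr Q n :=
    (Submodule.add_mem_iff_right _ (hle n (hf n))).1 hc
  have h0 : ∑ m ∈ f.support.erase n, f m = 0 :=
    Submodule.disjoint_def.1 ((T.decomp Q).submodule_iSupIndep n) _ hr' hrest
  rw [h0, add_zero]
  exact hf n

/-- A class on a product is determined by its pairings with products of pulled back classes. -/
lemma eq_of_tr_pull_mul_pull {X Y Q : P.FullSubcategory} (p : Q ⟶ X) (q : Q ⟶ Y) (h : IsProd p q)
    {n : ℤ} {c c' : T.H Q} (hc : c ∈ T.gr Q n) (hc' : c' ∈ T.gr Q n)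
    (he : ∀ (i j : ℤ), i + j = 2 * (dim Q.obj.left : ℤ) - n → ∀ a ∈ T.gr X i, ∀ b ∈ T.gr Y j,
      T.tr Q (c * (T.pull p a * T.pull q b)) = T.tr Q (c' * (T.pull p a * T.pull q b))) :
    c = c' := by
  refine eq_of_tr T (j := 2 * (dim Q.obj.left : ℤ) - n) (by ring) hc hc' fun b hb => ?_
  have hb' := mem_span_pull_mul_pull T p q h hb
  clear hb
  induction hb' using Submodule.span_induction with
  | mem z hz => obtain ⟨i, j, hij, a, ha, c₀, hc₀, rfl⟩ := hz; exact he i j hij a ha c₀ hc₀
  | zero => simp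
  | add x y _ _ hx hy => rw [mul_add, map_add, hx, hy, mul_add, map_add]
  | smul r x _ hx => rw [mul_smul_comm, map_smul, hx, mul_smul_comm, map_smul]

/-- The defining property of the map attached to a correspondence. -/
lemma tr_corr_mul {X Y Q : P.FullSubcategory} (p : Q ⟶ X) (q : Q ⟶ Y) (i l : ℤ)
    (a : ↥(T.gr X i)) (φ : ↥(T.gr Q l)) {b : T.H Y}
    (hb : b ∈ T.gr Y (2 * (dim Q.obj.left : ℤ) - (i + l))) :
    T.tr Y ((T.push q (i + l) ⟨T.pull p (a : T.H X) * (φ : T.H Q),
        SetLike.mul_mem_graded (T.pull_mem p i a a.2) φ.2⟩ : T.H Y) * b) =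
      T.tr Q (T.pull p (a : T.H X) * φ * T.pull q b) :=
  tr_push_mul T q (i + l) _ hb

/-- The map attached to a decomposable correspondence. -/
lemma corr_pull_mul_pull {X Y Q : P.FullSubcategory} (p : Q ⟶ X) (q : Q ⟶ Y) (h : IsProd p q)
    (i s t l : ℤ) (hl : s + t = l) (a : ↥(T.gr X i)) {e : T.H X} (he : e ∈ T.gr X s)
    {f : T.H Y} (hf : f ∈ T.gr Y t) :
    (T.push q (i + l) ⟨T.pull p (a : T.H X) * (T.pull p e * T.pull q f),
        SetLike.mul_mem_graded (T.pull_mem p i a a.2)
          (mul_mem T hl (T.pull_mem p s e he) (T.pull_mem q t f hf))⟩ : T.H Y) =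
      T.tr X ((a : T.H X) * e) • f := by
  have hd := dim_prod T p q h
  refine push_eq T q _ _ ?_ fun b hb => ?_
  · by_cases hs : i + s = 2 * (dim X.obj.left : ℤ)
    · exact Submodule.smul_mem _ _ (mem_of_deg_eq T (by omega) hf)
    · rw [T.tr_vanish X _ _ (SetLike.mul_mem_graded a.2 he) hs, zero_smul]
      exact zero_mem _
  · rw [smul_mul_assoc, map_smul, smul_eq_mul]
    show _ = T.tr Q (T.pull p (a : T.H X) * (T.pull p e * T.pull q f) * T.pull q b)
    rw [← mul_assoc, ← map_mul (T.pull p), mul_assoc, ← map_mul (T.pull q),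
      tr_pull_mul_pull T p q h]

end GrothLib.WeilCoh
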