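import Groth.Agent.Lib.WeilCoh.Graph
import Groth.Agent.Lib.WeilCoh.Kunneth

/-!
Künneth projectors as combinations of graphs of iterates of an endomorphism.
-/

set_option linter.style.haveILetI false

universe u v w

open CategoryTheory AlgebraicGeometry

namespace GrothLib.WeilCoh

open _root_.WeilCoh

variable {k : Type u} [Field k]

/-- A morphism into a product. -/
lemma exists_lift {X Y Z Q : Var k} {p : Q ⟶ X} {q : Q ⟶ Y} (h : IsProd p q) (f : Z ⟶ X) (g : Z ⟶ Y) :
    ∃ j : Z ⟶ Q, j ≫ p = f ∧ j ≫ q = g := by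
  have e : sm f ≫ X.obj.hom = sm g ≫ Y.obj.hom := by rw [sm_comp_hom, sm_comp_hom]
  have e' : h.lift (sm f) (sm g) e ≫ Q.obj.hom = Z.obj.hom := by
    rw [← sm_comp_hom p, ← Category.assoc, h.lift_fst, sm_comp_hom]
  refine ⟨ObjectProperty.homMk (Over.homMk (h.lift (sm f) (sm g) e) e'), ?_, ?_⟩
  · apply ObjectProperty.hom_ext
    ext1
    exact h.lift_fst _ _ _
  · apply ObjectProperty.hom_ext
    ext1
    exact h.lift_snd _ _ _

variable {K : Type v} [Field K] (T : TheoryOn.{u, v, w} k (IsVar k) K)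

lemma tr_corr_cl_graph {X Q : Var k} (p q : Q ⟶ X) (g : X ⟶ X) (j : X ⟶ Q) (hjp : j ≫ p = g)
    (hjq : j ≫ q = 𝟙 X) [IrreducibleSpace ↥X.obj.left] {s t : ℤ}
    (hst : s + t = 2 * (dim X.obj.left : ℤ)) {b c : T.H X} (hb : b ∈ T.gr X s) (hc : c ∈ T.gr X t) :
    T.tr Q (T.pull p b * T.cl Q (sm j (genericPoint ↥X.obj.left)) * T.pull q c) =
      T.tr X (T.pull g b * c) := by
  set η := genericPoint ↥X.obj.left with hη
  have hm : T.pull p b * T.pull q c ∈ T.gr Q (2 * (pdim X.obj.left η : ℤ)) :=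
    mul_mem T (by rw [hη, pdim_genericPoint]; exact hst) (T.pull_mem p s b hb) (T.pull_mem q t c hc)
  have h := T.cl_push j η _ hm
  rw [map_mul (T.pull j), pull_pull T j p g hjp, pull_section T j q hjq, hη, cl_genericPoint T X,
    one_mul, ← hη, residueDegree_section j q hjq η, Nat.cast_one, one_mul] at h
  rw [← mul_comm_of_even T (even_two_mul _) (T.cl_mem Q _) (T.pull_mem p s b hb), mul_assoc, h]

theorem exists_projector {X Q : Var k} (p q : Q ⟶ X) (hQ : IsProd p q) (F : X ⟶ X)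
    (hF : ∀ i j : ℤ, i ≠ j → IsCoprime (T.pullDeg F i).charpoly (T.pullDeg F j).charpoly) (i : ℤ) :
    ∃ u : ↥(T.gr Q (2 * (dim X.obj.left : ℤ))),
      (u : T.H Q) ∈ Submodule.span K (Set.range (T.cl Q)) ∧
        ∀ (j : ℤ) (b : ↥(T.gr X j)),
          (T.push q (j + 2 * (dim X.obj.left : ℤ))
              ⟨T.pull p (b : T.H X) * (u : T.H Q),
                SetLike.mul_mem_graded (T.pull_mem p j b b.2) u.2⟩ : T.H X) =
            if j = i then (b : T.H X) else 0 := by
  classical
  have hd := dim_prod T p q hQ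
  set η := genericPoint ↥X.obj.left
  let s : Finset ℤ := (Finset.Icc 0 (2 * (dim X.obj.left : ℤ))).erase i
  obtain ⟨a, c, hac⟩ := IsCoprime.prod_left (t := s) (s := fun j => (T.pullDeg F j).charpoly)
    (x := (T.pullDeg F i).charpoly) fun j hj => hF j i (Finset.ne_of_mem_erase hj)
  set π := a * ∏ j ∈ s, (T.pullDeg F j).charpoly with hπ
  let Fn : ℕ → (X ⟶ X) := fun n => Nat.rec (𝟙 X) (fun _ g => g ≫ F) n
  have hFn : ∀ (n : ℕ) (j : ℤ) (b : ↥(T.gr X j)),
      T.pull (Fn n) (b : T.H X) = (((T.pullDeg F j) ^ n) b : T.H X) := by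
    intro n
    induction n with
    | zero => intro j b; show T.pull (𝟙 X) (b : T.H X) = _; rw [T.pull_id]; rfl
    | succ n ih =>
      intro j b
      show T.pull (Fn n ≫ F) (b : T.H X) = _
      rw [T.pull_comp, AlgHom.comp_apply, pow_succ, Module.End.mul_apply, ← ih]
      rfl
  choose J hJp hJq using fun n => exists_lift hQ (Fn n) (𝟙 X)
  have hmem : ∀ n, T.cl Q (sm (J n) η) ∈ T.gr Q (2 * (dim X.obj.left : ℤ)) := fun n =>
    mem_of_deg_eq T (by rw [codim_cast, pdim_section (J n) q (hJq n), pdim_genericPoint]; omega)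
      (T.cl_mem Q _)
  have hU : ∑ n ∈ Finset.range (π.natDegree + 1), π.coeff n • T.cl Q (sm (J n) η) ∈
      Submodule.span K (Set.range (T.cl Q)) :=
    Submodule.sum_mem _ fun n _ => Submodule.smul_mem _ _ (Submodule.subset_span (Set.mem_range_self _))
  refine ⟨⟨∑ n ∈ Finset.range (π.natDegree + 1), π.coeff n • T.cl Q (sm (J n) η),
    Submodule.sum_mem _ fun n _ => Submodule.smul_mem _ _ (hmem n)⟩, hU, fun j b => ?_⟩
  have hπj : Polynomial.aeval (T.pullDeg F j) π b = if j = i then b else 0 := by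
    by_cases hb : j ∈ Finset.Icc 0 (2 * (dim X.obj.left : ℤ))
    · split_ifs with h
      · subst h
        have h1 : π = 1 - c * (T.pullDeg F j).charpoly := by rw [hπ, ← hac]; ring
        rw [h1, map_sub, map_one, map_mul, LinearMap.aeval_self_charpoly, mul_zero]
        simp
      · obtain ⟨d, hd'⟩ := Finset.dvd_prod_of_mem (fun j => (T.pullDeg F j).charpoly)
          (Finset.mem_erase.2 ⟨h, hb⟩ : j ∈ s)
        rw [hπ, hd', ← mul_assoc, mul_comm a, mul_assoc, map_mul, LinearMap.aeval_self_charpoly,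
          zero_mul]
        rfl
    · rw [Finset.mem_Icc] at hb
      have hb0 : b = 0 := Subtype.ext (eq_zero_of_vanish T (by omega) b.2)
      rw [hb0, map_zero, ite_self]
  refine push_eq T q _ _ (mem_of_deg_eq T (by omega) (show (if j = i then (b : T.H X) else 0) ∈ T.gr X j by
    split_ifs
    exacts [b.2, zero_mem _])) fun z hz => ?_
  show _ = T.tr Q (T.pull p (b : T.H X) *
    (∑ n ∈ Finset.range (π.natDegree + 1), π.coeff n • T.cl Q (sm (J n) η)) * T.pull q z)
  simp only [Finset.mul_sum, Finset.sum_mul, mul_smul_comm, smul_mul_assoc, map_sum, map_smul]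
  simp only [tr_corr_cl_graph T p q _ (J _) (hJp _) (hJq _)
    (by ring : j + (2 * (dim X.obj.left : ℤ) - j) = 2 * (dim X.obj.left : ℤ)) b.2
    (mem_of_deg_eq T (by omega) hz : z ∈ T.gr X (2 * (dim X.obj.left : ℤ) - j)), η]
  have h2 : (if j = i then (b : T.H X) else 0)
      = ∑ n ∈ Finset.range (π.natDegree + 1), π.coeff n • T.pull (Fn n) (b : T.H X) := by
    have h3 : (Polynomial.aeval (T.pullDeg F j) π b : T.H X)
        = ∑ n ∈ Finset.range (π.natDegree + 1), π.coeff n • T.pull (Fn n) (b : T.H X) := by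
      rw [Polynomial.aeval_eq_sum_range, LinearMap.sum_apply, Submodule.coe_sum]
      exact Finset.sum_congr rfl fun n _ => by rw [LinearMap.smul_apply, Submodule.coe_smul, hFn]
    rw [← h3, hπj]
    split_ifs <;> rfl
  rw [h2, Finset.sum_mul, map_sum]
  simp only [smul_mul_assoc, map_smul, smul_eq_mul]

end GrothLib.WeilCoh
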