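import Groth.Agent.Lib.WeilCoh.Lefschetz
import Groth.Agent.Lib.WeilCoh.Projector
import Groth.Agent.Lib.WeilCoh.Frobenius
import Groth.Agent.Lib.WeilCoh.Cycle
import Groth.Agent.Lib.Zeta.Frobenius
import Mathlib.RingTheory.Nakayama

/-!
The fixed points of a geometric Frobenius endomorphism: they are rational, and the graph meets the
diagonal transversally there.
-/

set_option linter.style.haveILetI false

universe u v w

open CategoryTheory Limits AlgebraicGeometry

namespace GrothLib.WeilCoh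

open _root_.WeilCoh GrothLib.AffDom GrothLib.Zeta

lemma ptsEquiv_fst {k : Type u} [Field k] {X : Scheme.{u}} {f : X ⟶ Spec (CommRingCat.of k)}
    {k' : Type u} [Field k'] [Algebra k k'] (g : Pts f k') : (ptsEquiv f k' g).1 = g.1 default :=
  congrArg g.1 (Subsingleton.elim _ _)

lemma sigma_ext_of_surjective {k : Type u} [Field k] {X : Scheme.{u}}
    (f : X ⟶ Spec (CommRingCat.of k)) {k' : Type u} [Field k'] [Algebra k k']
    {s t : Σ x : X, PtsAt f k' x} (h : s.1 = t.1) (hs : Function.Surjective (toRes f s.1)) :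
    s = t := by
  obtain ⟨x, φ⟩ := s
  obtain ⟨y, φ'⟩ := t
  dsimp only at h hs
  subst h
  letI := (toRes f x).toAlgebra
  refine congrArg (Sigma.mk x) (show (φ : X.residueField x →ₐ[k] k') = φ' from AlgHom.ext fun a => ?_)
  obtain ⟨c, rfl⟩ := hs a
  exact ((φ : X.residueField x →ₐ[k] k').commutes c).trans
    ((φ' : X.residueField x →ₐ[k] k').commutes c).symm

lemma finite_of_forall_isClosed_singleton {α : Type*} [TopologicalSpace α]
    [TopologicalSpace.NoetherianSpace α] [QuasiSober α] {S : Set α} (hS : IsClosed S)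
    (h : ∀ x ∈ S, IsClosed ({x} : Set α)) : Finite S := by
  obtain ⟨F, hF, hirr, -, rfl⟩ :=
    TopologicalSpace.NoetherianSpace.exists_finite_set_isClosed_irreducible hS |> fun
      ⟨F, h1, h2, h3, h4⟩ => (⟨F, h1, fun t ht => And.intro (h2 t ht) (h3 t ht), trivial, h4⟩ :
        ∃ F : Set (Set α), F.Finite ∧ (∀ t ∈ F, IsClosed t ∧ IsIrreducible t) ∧ True ∧ S = ⋃₀ F)
  refine (hF.sUnion fun t ht => ?_).to_subtype
  obtain ⟨z, hz⟩ := QuasiSober.sober (hirr t ht).2 (hirr t ht).1
  have e : t = {z} := by rw [← hz.def, (h z ⟨t, ht, hz.mem⟩).closure_eq]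
  rw [e]
  exact Set.finite_singleton z

section graph

variable {k : Type u} [Field k] {X Q : Var k}

lemma isSeparated_hom (Y : Var k) : IsSeparated Y.obj.hom := by
  obtain ⟨n, i, hi, h⟩ := Y.property.2.1
  haveI := GrothLib.Chow.isProper_toBase n (Spec (CommRingCat.of k))
  rw [← h]; infer_instance

lemma sm_comp {Y Z : Var k} (f : X ⟶ Y) (g : Y ⟶ Z) : sm (f ≫ g) = sm f ≫ sm g := rfl

lemma isClosedImmersion_section (s : X ⟶ Q) (r : Q ⟶ X) (h : s ≫ r = 𝟙 X) :
    IsClosedImmersion (sm s) := by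
  have hsr : sm s ≫ sm r = 𝟙 X.obj.left := by rw [← sm_comp, h]; rfl
  haveI : IsSeparated (sm r ≫ X.obj.hom) := by rw [sm_comp_hom]; exact isSeparated_hom Q
  haveI : IsSeparated (sm r) := IsSeparated.of_comp (sm r) X.obj.hom
  haveI : IsClosedImmersion (sm s ≫ sm r) := by rw [hsr]; infer_instance
  exact IsClosedImmersion.of_comp (sm s) (sm r)

lemma closure_section [IrreducibleSpace ↥X.obj.left] (s : X ⟶ Q) (r : Q ⟶ X) (h : s ≫ r = 𝟙 X) :
    closure ({sm s (genericPoint ↥X.obj.left)} : Set Q.obj.left) = Set.range (sm s) := by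
  haveI := isClosedImmersion_section s r h
  refine Set.Subset.antisymm (closure_minimal ?_ (sm s).isClosedEmbedding.isClosed_range) ?_
  · rintro _ rfl; exact ⟨_, rfl⟩
  · rintro _ ⟨x, rfl⟩
    exact specializes_iff_mem_closure.mp
      (((genericPoint_spec ↥X.obj.left).specializes trivial).map (sm s).continuous)

variable [IrreducibleSpace ↥X.obj.left] (G : X ⟶ X) (p q : Q ⟶ X) (j d : X ⟶ Q)
  (hjp : j ≫ p = 𝟙 X) (hjq : j ≫ q = G) (hdp : d ≫ p = 𝟙 X) (hdq : d ≫ q = 𝟙 X)

include hjp hdp in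
lemma section_apply_eq {w : X.obj.left}
    (hw : sm d w ∈ closure ({sm j (genericPoint ↥X.obj.left)} : Set Q.obj.left)) :
    sm d w = sm j w := by
  rw [closure_section j p hjp] at hw
  obtain ⟨y, hy⟩ := hw
  have h1 : sm p (sm j y) = y := by
    rw [← Scheme.Hom.comp_apply, ← sm_comp, hjp]; rfl
  have h2 : sm p (sm d w) = w := by
    rw [← Scheme.Hom.comp_apply, ← sm_comp, hdp]; rfl
  rw [hy, h2] at h1
  rw [← h1] at hy
  exact hy.symm

include hjp hjq hdp hdq in
/-- An infinitesimal neighbourhood of `w` inside the inverse image of the graph is fixed. -/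
lemma comp_eq_of_mem_fix {w : X.obj.left}
    (hw : sm d w ∈ closure ({sm j (genericPoint ↥X.obj.left)} : Set Q.obj.left))
    {B : Type u} [CommRing B] (mk : X.obj.left.presheaf.stalk w →+* B)
    (hmk : ∀ r, Cyc.specMap (sm d w) (sm j (genericPoint ↥X.obj.left))
      (specializes_iff_mem_closure.mpr hw) r = 0 → mk ((sm d).stalkMap w r) = 0) :
    (Spec.map (CommRingCat.ofHom mk) ≫ X.obj.left.fromSpecStalk w) ≫ sm G =
      Spec.map (CommRingCat.ofHom mk) ≫ X.obj.left.fromSpecStalk w := by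
  set η := genericPoint ↥X.obj.left with hη
  have hdj : sm d w = sm j w := section_apply_eq p j d hjp hdp hw
  have hs₁ : sm j w ⤳ sm d w := specializes_of_eq hdj.symm
  let J : Q.obj.left.presheaf.stalk (sm d w) ⟶ X.obj.left.presheaf.stalk w :=
    Q.obj.left.presheaf.stalkSpecializes hs₁ ≫ (sm j).stalkMap w
  have hJ : Function.Surjective J := by
    haveI := isClosedImmersion_section j p hjp
    refine ((sm j).stalkMap_surjective w).comp fun b =>
      ⟨Q.obj.left.presheaf.stalkSpecializes (specializes_of_eq hdj) b, ?_⟩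
    show (Q.obj.left.presheaf.stalkSpecializes (specializes_of_eq hdj) ≫
      Q.obj.left.presheaf.stalkSpecializes hs₁) b = b
    rw [TopCat.Presheaf.stalkSpecializes_comp, TopCat.Presheaf.stalkSpecializes_refl]
    rfl
  have hker : ∀ r, J r = 0 →
      Cyc.specMap (sm d w) (sm j η) (specializes_iff_mem_closure.mpr hw) r = 0 := by
    intro r hr
    have hs : η ⤳ w := (genericPoint_spec ↥X.obj.left).specializes trivial
    have e : Q.obj.left.presheaf.stalkSpecializes (specializes_iff_mem_closure.mpr hw) ≫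
        Q.obj.left.residue (sm j η) ≫ (sm j).residueFieldMap η =
        J ≫ X.obj.left.presheaf.stalkSpecializes hs ≫ X.obj.left.residue η := by
      rw [Scheme.residue_residueFieldMap, Category.assoc,
        ← Scheme.Hom.stalkSpecializes_stalkMap_assoc (sm j) η w hs]
      rw [TopCat.Presheaf.stalkSpecializes_comp_assoc]
    have e' := ConcreteCategory.congr_hom e r
    simp only [CommRingCat.comp_apply, hr, map_zero] at e'
    exact (map_eq_zero ((sm j).residueFieldMap η).hom).mp e'
  set ri := Function.surjInv hJ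
  let φ : X.obj.left.presheaf.stalk w →+* B :=
    J.hom.liftOfRightInverse ri (Function.rightInverse_surjInv hJ)
      ⟨mk.comp ((sm d).stalkMap w).hom, fun r hr => hmk r (hker r hr)⟩
  have hφ : J ≫ CommRingCat.ofHom φ = (sm d).stalkMap w ≫ CommRingCat.ofHom mk :=
    CommRingCat.hom_ext (J.hom.liftOfRightInverse_comp ri (Function.rightInverse_surjInv hJ) _)
  have e1 : (Spec.map (CommRingCat.ofHom mk) ≫ X.obj.left.fromSpecStalk w) ≫ sm d =
      (Spec.map (CommRingCat.ofHom φ) ≫ X.obj.left.fromSpecStalk w) ≫ sm j := by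
    rw [Category.assoc, Category.assoc, ← Scheme.SpecMap_stalkMap_fromSpecStalk,
      ← Scheme.SpecMap_stalkMap_fromSpecStalk, ← Category.assoc, ← Category.assoc,
      ← Scheme.SpecMap_stalkSpecializes_fromSpecStalk hs₁, ← Category.assoc]
    congr 1
    refine (Spec.map_comp _ _).symm.trans ((congrArg Spec.map hφ.symm).trans ?_)
    exact (Spec.map_comp _ _).trans (congrArg (Spec.map _ ≫ ·) (Spec.map_comp _ _))
  have ep := congrArg (fun t => t ≫ sm p) e1
  simp only [Category.assoc, ← sm_comp, hjp, hdp] at ep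
  have eq' := congrArg (fun t => t ≫ sm q) e1
  simp only [Category.assoc, ← sm_comp, hjq, hdq] at eq'
  change _ ≫ _ ≫ 𝟙 _ = _ ≫ _ ≫ 𝟙 _ at ep
  change _ ≫ _ ≫ 𝟙 _ = _ ≫ _ ≫ sm G at eq'
  rw [Category.comp_id] at ep eq'
  conv_rhs => rw [eq']
  rw [Category.assoc, ← Category.assoc _ (X.obj.left.fromSpecStalk w),
    ← Category.assoc _ (X.obj.left.fromSpecStalk w), ep]

end graph

section frobenius

variable {k₀ : Type u} [Field k₀] [Finite k₀] {k : Type u} [Field k] [IsAlgClosed k] [Algebra k₀ k]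
  {X₀ : Scheme.{u}} (FX : X₀ ⟶ X₀) (hle : ∀ U : X₀.Opens, U ≤ FX ⁻¹ᵁ U)
  (hFapp : ∀ (U : X₀.Opens) (s : Γ(X₀, U)), (FX.appLE U U (hle U)).hom s = s ^ Nat.card k₀)
  {f : X₀ ⟶ Spec (CommRingCat.of k₀)}
  {X Q : Var k} [IrreducibleSpace ↥X.obj.left] {π : X.obj.left ⟶ X₀}
  (hπ : IsPullback π X.obj.hom f (Spec.map (CommRingCat.ofHom (algebraMap k₀ k))))
  (m : ℕ) (hm : 1 ≤ m) (G : X ⟶ X) (hG : sm G ≫ π = π ≫ iterHom FX m)
  (p q : Q ⟶ X) (hQ : IsProd p q) (j d : X ⟶ Q)
  (hjp : j ≫ p = 𝟙 X) (hjq : j ≫ q = G) (hdp : d ≫ p = 𝟙 X) (hdq : d ≫ q = 𝟙 X)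

omit [IrreducibleSpace ↥X.obj.left] in
include hπ hFapp hG hm in
/-- A point whose residue field embedding is fixed is rational. -/
lemma toRes_surjective_of_fixed {w : X.obj.left}
    (hw : X.obj.left.fromSpecResidueField w ≫ sm G = X.obj.left.fromSpecResidueField w) :
    Function.Surjective (toRes X.obj.hom w) := by
  letI : Algebra k₀ (X.obj.left.residueField w) :=
    ((toRes X.obj.hom w).comp (algebraMap k₀ k)).toAlgebra
  set ψ := π.residueFieldMap w with hψ
  have e := congrArg (fun t => t ≫ π) hw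
  simp only [Category.assoc, hG] at e
  rw [← Category.assoc, ← Scheme.Hom.SpecMap_residueFieldMap_fromSpecResidueField, ← hψ] at e
  replace e := (comp_iterFrobenius_field FX hle hFapp (L := X.obj.left.residueField w)
    (Spec.map ψ ≫ X₀.fromSpecResidueField (π w)) m).symm.trans e
  rw [← Category.assoc] at e
  replace e := Spec.map_injective
    ((Spec.map_comp _ _).trans ((cancel_mono (X₀.fromSpecResidueField (π w))).1 e))
  have hfix : ∀ a, (ψ a) ^ (Nat.card k₀ ^ m) = ψ a := fun a => by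
    have h := DFunLike.congr_fun (congrArg CommRingCat.Hom.hom e) a
    simpa [fr_apply] using h
  have hQ1 : 1 < Nat.card k₀ ^ m := Nat.one_lt_pow (by omega) Finite.one_lt_card
  letI : Algebra k (X.obj.left.residueField w) := (toRes X.obj.hom w).toAlgebra
  have hmem : ∀ a, ψ a ∈ (toRes X.obj.hom w).fieldRange := by
    intro a
    have hint : IsIntegral k (ψ a) := by
      refine ⟨Polynomial.X ^ (Nat.card k₀ ^ m) - Polynomial.X,
        Polynomial.monic_X_pow_sub (by rw [Polynomial.degree_X]; exact_mod_cast hQ1), ?_⟩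
      simp [hfix]
    obtain ⟨c, hc⟩ := minpoly.mem_range_of_degree_eq_one k (ψ a)
      (IsAlgClosed.degree_eq_one_of_irreducible k (minpoly.irreducible hint))
    exact ⟨c, hc⟩
  have htop := residueField_eq_top hπ w (toRes X.obj.hom w).fieldRange hmem fun c => ⟨c, rfl⟩
  intro y
  obtain ⟨c, hc⟩ : y ∈ (toRes X.obj.hom w).fieldRange := htop ▸ trivial
  exact ⟨c, hc⟩

include hπ hFapp hG hm hjp hjq hdp hdq in
lemma fixed_and_isClosed {w : X.obj.left}
    (hw : sm d w ∈ closure ({sm j (genericPoint ↥X.obj.left)} : Set Q.obj.left)) :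
    X.obj.left.fromSpecResidueField w ≫ sm G = X.obj.left.fromSpecResidueField w ∧
      Function.Surjective (toRes X.obj.hom w) ∧ IsClosed ({w} : Set ↥X.obj.left) := by
  have h1 : X.obj.left.fromSpecResidueField w ≫ sm G = X.obj.left.fromSpecResidueField w :=
    comp_eq_of_mem_fix G p q j d hjp hjq hdp hdq hw (X.obj.left.residue w).hom fun r hr =>
      (IsLocalRing.residue_eq_zero_iff _).mpr fun hu => (((isUnit_map_iff
        ((sm d).stalkMap w).hom r).mp hu).map (Cyc.specMap (sm d w) (sm j (genericPoint ↥X.obj.left))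
          (specializes_iff_mem_closure.mpr hw))).ne_zero hr
  have h2 := toRes_surjective_of_fixed FX hle hFapp hπ m hm G hG h1
  refine ⟨h1, h2, (isClosed_iff_finite X.obj.hom w).mpr ?_⟩
  letI := (toRes X.obj.hom w).toAlgebra
  exact Module.Finite.of_surjective (Algebra.linearMap k (X.obj.left.residueField w)) h2

include hπ hFapp hG hm hjp hjq hdp hdq in
lemma preimMult_eq_one {w : X.obj.left}
    (hw : sm d w ∈ closure ({sm j (genericPoint ↥X.obj.left)} : Set Q.obj.left)) :
    preimMult (sm d) (sm j (genericPoint ↥X.obj.left)) w hw = 1 := by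
  obtain ⟨hfix, hsurj, -⟩ := fixed_and_isClosed FX hle hFapp hπ m hm G hG p q j d hjp hjq hdp hdq hw
  unfold preimMult
  set I : Ideal (X.obj.left.presheaf.stalk w) := Ideal.map ((sm d).stalkMap w).hom
    (RingHom.ker (Cyc.specMap (sm d w) (sm j (genericPoint ↥X.obj.left))
      (specializes_iff_mem_closure.mpr hw))) with hI
  set M := IsLocalRing.maximalIdeal (X.obj.left.presheaf.stalk w) with hM
  have hIM : I ≤ M := by
    rw [hI]
    exact Ideal.map_le_iff_le_comap.2 ((IsLocalRing.le_maximalIdeal (RingHom.ker_ne_top _)).trans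
      (le_of_eq (IsLocalRing.maximalIdeal_comap _).symm))
  suffices hMI : M ≤ I by
    have e : I = M := le_antisymm hIM hMI
    rw [e]
    haveI := IsLocalRing.maximalIdeal.isMaximal (X.obj.left.presheaf.stalk w)
    have hs : IsSimpleModule (X.obj.left.presheaf.stalk w)
        (X.obj.left.presheaf.stalk w ⧸ M) :=
      isSimpleModule_iff_isCoatom.mpr ((IsLocalRing.maximalIdeal.isMaximal _).out)
    rw [Module.length_eq_one_iff.2 hs]
    rfl
  -- the thickening
  set J := I ⊔ M ^ 2 with hJdef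
  have hJM : J ≤ M := sup_le hIM (Ideal.pow_le_self two_ne_zero)
  have hJtop : J ≠ ⊤ := fun h => (IsLocalRing.maximalIdeal.isMaximal _).ne_top (top_le_iff.1 (h ▸ hJM))
  haveI : Nontrivial (X.obj.left.presheaf.stalk w ⧸ J) := Ideal.Quotient.nontrivial_iff.mpr hJtop
  haveI : IsLocalRing (X.obj.left.presheaf.stalk w ⧸ J) :=
    IsLocalRing.of_surjective' (Ideal.Quotient.mk J) Ideal.Quotient.mk_surjective
  let mk := Ideal.Quotient.mk J
  let res₀ : X.obj.left.presheaf.stalk w →+* k :=
    (RingEquiv.ofBijective (toRes X.obj.hom w) ⟨RingHom.injective _, hsurj⟩).symm.toRingHom.comp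
      (X.obj.left.residue w).hom
  have hres₀ : ∀ a ∈ M, res₀ a = 0 := fun a ha => by
    show _ = _
    rw [RingHom.comp_apply, show (X.obj.left.residue w).hom a = 0 from
      (IsLocalRing.residue_eq_zero_iff a).mpr ha, map_zero]
  let c : X.obj.left.presheaf.stalk w ⧸ J →+* k :=
    Ideal.Quotient.lift J res₀ fun a ha => hres₀ a (hJM ha)
  obtain ⟨α, hα⟩ : ∃ α, Spec.map α = X.obj.left.fromSpecStalk w ≫ X.obj.hom :=
    ⟨_, Spec.map_preimage _⟩
  let aB : k →+* X.obj.left.presheaf.stalk w ⧸ J := mk.comp α.hom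
  letI : Algebra k₀ (X.obj.left.presheaf.stalk w ⧸ J) := (aB.comp (algebraMap k₀ k)).toAlgebra
  have hresα : ∀ a, res₀ (α.hom a) = a := by
    intro a
    have e : α ≫ X.obj.left.residue w = CommRingCat.ofHom (toRes X.obj.hom w) := by
      apply Spec.map_injective
      rw [Spec.map_comp, hα, SpecMap_toRes, ← Category.assoc]
      rfl
    have e' := DFunLike.congr_fun (congrArg CommRingCat.Hom.hom e) a
    show (RingEquiv.ofBijective (toRes X.obj.hom w) ⟨RingHom.injective _, hsurj⟩).symm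
      ((X.obj.left.residue w).hom (α.hom a)) = a
    rw [RingEquiv.symm_apply_eq]
    exact e'
  have hfr : fr k₀ (X.obj.left.presheaf.stalk w ⧸ J) m = (aB.comp (fr k₀ k m)).comp c := by
    refine RingHom.ext fun b => ?_
    obtain ⟨a, rfl⟩ := Ideal.Quotient.mk_surjective b
    set a' := a - α.hom (res₀ a) with ha'
    have ha'M : a' ∈ M := by
      rw [hM, IsLocalRing.mem_maximalIdeal]
      intro hu
      exact (hu.map res₀).ne_zero (by rw [ha', map_sub, hresα, sub_self])
    have hQ2 : 2 ≤ Nat.card k₀ ^ m := Nat.one_lt_pow (by omega) Finite.one_lt_card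
    have ha'Q : fr k₀ (X.obj.left.presheaf.stalk w ⧸ J) m (mk a') = 0 := by
      rw [fr_apply, ← map_pow, Ideal.Quotient.eq_zero_iff_mem]
      exact Ideal.mem_sup_right (Ideal.pow_le_pow_right hQ2 (Ideal.pow_mem_pow ha'M _))
    rw [show mk a = mk a' + aB (res₀ a) by rw [ha', map_sub]; exact (sub_add_cancel _ _).symm,
      map_add, ha'Q, zero_add]
    show _ = aB (fr k₀ k m (c (mk a' + aB (res₀ a))))
    rw [map_add c, show c (mk a') = 0 from hres₀ a' ha'M,
      show c (aB (res₀ a)) = res₀ a from hresα _, zero_add, fr_apply, fr_apply, map_pow]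
  have hiB := comp_eq_of_mem_fix G p q j d hjp hjq hdp hdq hw mk fun r hr =>
    Ideal.Quotient.eq_zero_iff_mem.mpr (Ideal.mem_sup_left (Ideal.mem_map_of_mem _ hr))
  obtain ⟨iB, hiBdef⟩ : ∃ i, i = Spec.map (CommRingCat.ofHom mk) ≫ X.obj.left.fromSpecStalk w :=
    ⟨_, rfl⟩
  rw [← hiBdef] at hiB
  obtain ⟨s, hs⟩ : ∃ s, s = Spec.map (CommRingCat.ofHom c) ≫ iB := ⟨_, rfl⟩
  have hs_hom : s ≫ X.obj.hom = 𝟙 _ := by
    rw [hs, hiBdef, Category.assoc, Category.assoc, ← hα, ← Spec.map_comp, ← Spec.map_comp,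
      ← Spec.map_id]
    exact congrArg Spec.map (CommRingCat.hom_ext (RingHom.ext hresα))
  have hsG : (s ≫ π) ≫ iterHom FX m = s ≫ π := by
    rw [Category.assoc, ← hG, hs, Category.assoc, Category.assoc, ← Category.assoc iB (sm G) π, hiB]
  have e1 : iB ≫ π = (Spec.map (CommRingCat.ofHom aB) ≫ s) ≫ π := by
    calc iB ≫ π = iB ≫ sm G ≫ π := by rw [← Category.assoc, hiB]
      _ = (iB ≫ π) ≫ iterHom FX m := by rw [hG, Category.assoc]
      _ = Spec.map (CommRingCat.ofHom (fr k₀ _ m)) ≫ iB ≫ π := comp_iterFrobenius FX hle hFapp _ m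
      _ = Spec.map (CommRingCat.ofHom aB) ≫
          Spec.map (CommRingCat.ofHom (fr k₀ k m)) ≫ s ≫ π := by
        rw [hfr, CommRingCat.ofHom_comp, CommRingCat.ofHom_comp, Spec.map_comp, Spec.map_comp, hs]
        simp only [Category.assoc]
      _ = (Spec.map (CommRingCat.ofHom aB) ≫ s) ≫ π := by
        rw [← comp_iterFrobenius FX hle hFapp (s ≫ π) m, hsG, Category.assoc]
  have e2 : iB ≫ X.obj.hom = (Spec.map (CommRingCat.ofHom aB) ≫ s) ≫ X.obj.hom := by
    rw [Category.assoc, hs_hom, Category.comp_id, hiBdef, Category.assoc, ← hα, ← Spec.map_comp]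
    rfl
  have e3 := hπ.hom_ext e1 e2
  rw [hs, hiBdef, ← Spec.map_comp_assoc, ← Spec.map_comp_assoc, cancel_mono, Spec.map_inj] at e3
  have hle2 : M ≤ I ⊔ M • M := by
    intro a ha
    have h := DFunLike.congr_fun (congrArg CommRingCat.Hom.hom e3) a
    change mk a = aB (c (mk a)) at h
    rw [show c (mk a) = 0 from hres₀ a ha, map_zero, Ideal.Quotient.eq_zero_iff_mem] at h
    rwa [hJdef, sq, ← smul_eq_mul] at h
  haveI : IsLocallyNoetherian X.obj.left := LocallyOfFiniteType.isLocallyNoetherian X.obj.hom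
  exact Submodule.le_of_le_smul_of_le_jacobson_bot (IsNoetherian.noetherian M)
    (IsLocalRing.maximalIdeal_le_jacobson _) hle2

omit [IrreducibleSpace ↥X.obj.left] [Finite k₀] [IsAlgClosed k] in
include hπ hG in
/-- Fixed points upstairs and downstairs. -/
lemma natCard_fixed_eq :
    Nat.card { s : Pts X.obj.hom k // s.1 ≫ sm G = s.1 } =
      Nat.card { t : Pts f k // t.1 ≫ iterHom FX m = t.1 } := by
  refine Nat.card_congr
    { toFun := fun s => ⟨⟨s.1.1 ≫ π, by
          rw [Category.assoc, hπ.w, ← Category.assoc, s.1.2]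
          simp⟩, by rw [Category.assoc, ← hG, ← Category.assoc, s.2]⟩
      invFun := fun t => ⟨⟨hπ.lift t.1.1 (𝟙 _) (by rw [t.1.2]; simp), by
          rw [hπ.lift_snd]; simp⟩, hπ.hom_ext (by
            rw [Category.assoc, hG, ← Category.assoc, hπ.lift_fst, t.2])
          (by rw [Category.assoc, sm_comp_hom])⟩
      left_inv := fun s => Subtype.ext (Subtype.ext (hπ.hom_ext (by rw [hπ.lift_fst]) (by
        rw [hπ.lift_snd, s.1.2]; simp)))
      right_inv := fun t => Subtype.ext (Subtype.ext (hπ.lift_fst _ _ _)) }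

include hπ hFapp hG hm hjp hjq hdp hdq hQ in
/-- The points of the inverse image of the graph are the fixed rational points. -/
lemma natCard_inter_eq :
    Nat.card {w : X.obj.left //
        sm d w ∈ closure ({sm j (genericPoint ↥X.obj.left)} : Set Q.obj.left)} =
      Nat.card { s : Pts X.obj.hom k // s.1 ≫ sm G = s.1 } := by
  have hpt : ∀ s : Pts X.obj.hom k, s.1 ≫ sm G = s.1 →
      sm d (s.1 default) ∈ closure ({sm j (genericPoint ↥X.obj.left)} : Set Q.obj.left) := by
    intro s hs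
    have e : s.1 ≫ sm d = s.1 ≫ sm j := hQ.hom_ext
      (by rw [Category.assoc, Category.assoc, ← sm_comp, ← sm_comp, hdp, hjp])
      (by rw [Category.assoc, Category.assoc, ← sm_comp, ← sm_comp, hdq, hjq, hs]; exact Category.comp_id _)
    rw [closure_section j p hjp, ← Scheme.Hom.comp_apply, e, Scheme.Hom.comp_apply]
    exact ⟨_, rfl⟩
  have hex : ∀ w : X.obj.left,
      sm d w ∈ closure ({sm j (genericPoint ↥X.obj.left)} : Set Q.obj.left) →
      ∃ s : Pts X.obj.hom k, s.1 ≫ sm G = s.1 ∧ s.1 default = w := by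
    intro w hw
    obtain ⟨h1, h2, -⟩ := fixed_and_isClosed FX hle hFapp hπ m hm G hG p q j d hjp hjq hdp hdq hw
    let e := RingEquiv.ofBijective (toRes X.obj.hom w) ⟨RingHom.injective _, h2⟩
    refine ⟨⟨Spec.map (CommRingCat.ofHom e.symm.toRingHom) ≫ X.obj.left.fromSpecResidueField w, ?_⟩,
      ?_, (Scheme.Hom.comp_apply _ _ _).trans (Scheme.fromSpecResidueField_apply _ _)⟩
    · rw [Category.assoc, ← SpecMap_toRes, ← Spec.map_comp]
      exact congrArg Spec.map (CommRingCat.hom_ext (RingHom.ext fun a => e.symm_apply_apply a))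
    · rw [Category.assoc, h1]
  symm
  refine Nat.card_eq_of_bijective (fun s => ⟨s.1.1 default, hpt s.1 s.2⟩) ⟨?_, ?_⟩
  · rintro ⟨s, hs⟩ ⟨s', hs'⟩ h
    have h' : s.1 default = s'.1 default := congrArg Subtype.val h
    refine Subtype.ext ((ptsEquiv X.obj.hom k).injective ?_)
    have hx := hpt _ hs
    rw [← ptsEquiv_fst] at hx
    rw [← ptsEquiv_fst, ← ptsEquiv_fst] at h'
    obtain ⟨-, h2, -⟩ := fixed_and_isClosed FX hle hFapp hπ m hm G hG p q j d hjp hjq hdp hdq hx
    exact sigma_ext_of_surjective X.obj.hom h' h2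
  · rintro ⟨w, hw⟩
    obtain ⟨s, hs, rfl⟩ := hex w hw
    exact ⟨⟨s, hs⟩, rfl⟩

variable [LocallyOfFiniteType f] [QuasiCompact f] {K : Type v} [Field K]
  (T : TheoryOn.{u, v, w} k (IsVar k) K)

include hπ hFapp hG hm hjp hjq hdp hdq hQ in
theorem tr_inter_eq_nPts :
    T.tr Q (T.cl Q (sm j (genericPoint ↥X.obj.left)) * T.cl Q (sm d (genericPoint ↥X.obj.left))) =
      (_root_.Zeta.nPts f m : K) := by
  classical
  set η := genericPoint ↥X.obj.left with hη
  have hdim := dim_prod T p q hQ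
  have hj : pdim Q.obj.left (sm j η) = dim X.obj.left :=
    (pdim_section j p hjp η).trans (pdim_genericPoint X)
  have hmem : T.cl Q (sm j η) ∈ T.gr Q (2 * (pdim X.obj.left η : ℤ)) :=
    mem_of_deg_eq T (by rw [codim_cast, hj, hη, pdim_genericPoint]; omega) (T.cl_mem Q _)
  have h := T.cl_push d η _ hmem
  rw [hη, cl_genericPoint T X, one_mul, ← hη, residueDegree_section d p hdp η, Nat.cast_one,
    one_mul] at h
  rw [mul_comm_of_even T (even_two_mul _) (T.cl_mem Q _) (T.cl_mem Q _), ← h]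
  have hclosed : ∀ w, sm d w ∈ closure ({sm j η} : Set Q.obj.left) → IsClosed ({w} : Set ↥X.obj.left) :=
    fun w hw => (fixed_and_isClosed FX hle hFapp hπ m hm G hG p q j d hjp hjq hdp hdq hw).2.2
  have hcomp : ∀ w, IsCompPt ((sm d) ⁻¹' closure ({sm j η} : Set Q.obj.left)) w ↔
      sm d w ∈ closure ({sm j η} : Set Q.obj.left) := fun w =>
    ⟨fun h => h.1, fun h => ⟨h, fun w' hw' hs =>
      (Set.mem_singleton_iff.mp (specializes_iff_mem_closure.mp hs |> (hclosed w' hw').closure_eq.le)).symm⟩⟩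
  have hpull := T.cl_pull d (sm j η) (fun w hw => by
      rw [pdim_eq_zero_of_isClosed X w (hclosed w hw.1), hj]; omega)
    (Or.inr fun w hw => preimMult_eq_one FX hle hFapp hπ m hm G hG p q j d hjp hjq hdp hdq hw.1)
  rw [hpull]
  have hcard : Nat.card {w : X.obj.left // sm d w ∈ closure ({sm j η} : Set Q.obj.left)} =
      _root_.Zeta.nPts f m := by
    rw [natCard_inter_eq FX hle hFapp hπ m hm G hG p q hQ j d hjp hjq hdp hdq,
      natCard_fixed_eq FX hπ m G hG, natCard_fixed_pts FX hle hFapp f k m hm]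
  have hfin : Finite {w : X.obj.left //
      IsCompPt ((sm d) ⁻¹' closure ({sm j η} : Set Q.obj.left)) w} := by
    haveI : Finite {w : X.obj.left // sm d w ∈ closure ({sm j η} : Set Q.obj.left)} := by
      haveI := quasiCompact_hom X
      haveI : CompactSpace X.obj.left := QuasiCompact.compactSpace_of_compactSpace X.obj.hom
      haveI : IsLocallyNoetherian X.obj.left := LocallyOfFiniteType.isLocallyNoetherian X.obj.hom
      haveI : IsNoetherian X.obj.left := ⟨⟩
      exact finite_of_forall_isClosed_singleton (isClosed_closure.preimage (sm d).continuous) hclosed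
    exact Finite.of_equiv {w : X.obj.left // sm d w ∈ closure ({sm j η} : Set Q.obj.left)}
      (Equiv.subtypeEquivRight fun w => (hcomp w).symm)
  letI := Fintype.ofFinite {w : X.obj.left //
      IsCompPt ((sm d) ⁻¹' closure ({sm j η} : Set Q.obj.left)) w}
  rw [finsum_eq_sum_of_fintype, map_sum]
  rw [Finset.sum_congr rfl (fun w _ => show T.tr X ((preimMult (sm d) (sm j η) w.1 w.2.1 : K) •
      T.cl X w.1) = 1 by
    rw [preimMult_eq_one FX hle hFapp hπ m hm G hG p q j d hjp hjq hdp hdq w.2.1, Nat.cast_one,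
      one_smul, tr_cl_of_isClosed T X w.1 (hclosed w.1 w.2.1)]), Finset.sum_const, Finset.card_univ,
    nsmul_eq_mul, mul_one, ← Nat.card_eq_fintype_card, Nat.card_congr (Equiv.subtypeEquivRight hcomp),
    hcard]

end frobenius

end GrothLib.WeilCoh
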