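import Groth.Agent.Lib.WeilCoh.Frobenius

/-!
Poincaré duality and the action of Frobenius on complementary degrees.
-/

set_option linter.style.haveILetI false

universe u v w

open CategoryTheory AlgebraicGeometry

namespace GrothLib.WeilCoh

open _root_.WeilCoh Polynomial

section Matrix

variable {K : Type*} [Field K] {n : ℕ}

open Matrix in
lemma matrix_pairing_identities (A B P : Matrix (Fin n) (Fin n) K) (c : K) (hP : IsUnit P.det)
    (h : Aᵀ * P * B = c • P) :
    A.det * B.det = c ^ n ∧
      A.det • B.charpoly.reverse = (-1 : K[X]) ^ n * A.charpoly.comp (C c * X) := by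
  set G := P * B * P⁻¹ with hG
  have hAG : Aᵀ * G = c • (1 : Matrix (Fin n) (Fin n) K) := by
    rw [hG, ← Matrix.mul_assoc, ← Matrix.mul_assoc, h, Matrix.smul_mul, Matrix.mul_nonsing_inv _ hP]
  have hGB : G.charpoly = B.charpoly := by
    have := (P.isUnit_iff_isUnit_det.2 hP)
    obtain ⟨U, hU⟩ := this
    rw [hG, ← hU]
    exact Matrix.charpoly_units_conj U B
  have hdet : G.det = B.det := Matrix.det_conj (P.isUnit_iff_isUnit_det.2 hP) B
  refine ⟨?_, ?_⟩
  · have := congrArg Matrix.det hAG
    rwa [Matrix.det_mul, Matrix.det_transpose, hdet, Matrix.det_smul, Matrix.det_one, mul_one,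
      Fintype.card_fin] at this
  · rw [← hGB, Matrix.reverse_charpoly, ← Matrix.charpoly_transpose A, Matrix.charpoly,
      Matrix.charpolyRev, Polynomial.smul_eq_C_mul, ← Matrix.det_transpose A]
    rw [RingHom.map_det (C : K →+* K[X]), ← Matrix.det_mul, RingHom.mapMatrix_apply, Matrix.mul_sub,
      Matrix.mul_one, Matrix.mul_smul, ← Matrix.map_mul, hAG]
    rw [show ((Aᵀ.charmatrix).det).comp (C c * X)
        = Polynomial.compRingHom (C c * X) (Aᵀ.charmatrix).det from rfl, RingHom.map_det,
      show (-1 : K[X]) ^ n = (-1 : K[X]) ^ Fintype.card (Fin n) by rw [Fintype.card_fin],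
      ← Matrix.det_neg]
    congr 1
    ext i j : 1
    rcases eq_or_ne i j with rfl | hij
    · simp [mul_comm X (C c)]
    · simp [hij, hij.symm]

end Matrix

variable {k : Type u} [Field k] {P : ObjectProperty (Over (Spec (CommRingCat.of k)))}
variable {K : Type v} [Field K] (T : TheoryOn.{u, v, w} k P K)

/-- An endomorphism multiplying the trace by `c` on the top degree: its actions on complementary
degrees are related by duality. -/
theorem det_charpoly_compl {X : P.FullSubcategory} (F : X ⟶ X) (c : K)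
    (hc : ∀ a ∈ T.gr X (2 * (dim X.obj.left : ℤ)), T.tr X (T.pull F a) = c * T.tr X a) (i : ℤ) :
    LinearMap.det (T.pullDeg F i) * LinearMap.det (T.pullDeg F (2 * (dim X.obj.left : ℤ) - i)) =
        c ^ Module.finrank K ↥(T.gr X i) ∧
      LinearMap.det (T.pullDeg F i) •
          (LinearMap.charpoly (T.pullDeg F (2 * (dim X.obj.left : ℤ) - i))).reverse =
        (-1 : K[X]) ^ Module.finrank K ↥(T.gr X i) *
          (LinearMap.charpoly (T.pullDeg F i)).comp (C c * Polynomial.X) := by
  classical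
  set j := 2 * (dim X.obj.left : ℤ) - i with hj
  haveI := T.duality X i j (by omega)
  set π := pairing K (T.gr X i) (T.gr X j) (T.tr X)
  have hn : Module.finrank K ↥(T.gr X j) = Module.finrank K ↥(T.gr X i) := by
    rw [π.toPerfPair.finrank_eq, Subspace.dual_finrank_eq]
  let bi := Module.finBasis K ↥(T.gr X i)
  let bj := Module.finBasisOfFinrankEq K ↥(T.gr X j) hn
  let M : Matrix (Fin (Module.finrank K ↥(T.gr X i))) (Fin (Module.finrank K ↥(T.gr X i))) K :=
    Matrix.of fun l m => T.tr X ((bi l : T.H X) * (bj m : T.H X))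
  have hM : IsUnit M.det := by
    have h1 := LinearEquiv.isUnit_det π.toPerfPair bi bj.dualBasis
    rw [← Matrix.det_transpose] at h1
    convert h1 using 2
    ext l m
    rw [Matrix.transpose_apply, LinearMap.toMatrix_apply, Module.Basis.dualBasis_repr]
    rfl
  have hrel : (LinearMap.toMatrix bi bi (T.pullDeg F i)).transpose * M *
      LinearMap.toMatrix bj bj (T.pullDeg F j) = c • M := by
    ext l m
    have h1 : c * T.tr X ((bi l : T.H X) * (bj m : T.H X)) =
        T.tr X ((T.pullDeg F i (bi l) : T.H X) * (T.pullDeg F j (bj m) : T.H X)) := by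
      rw [← hc _ (mul_mem T (by omega) (bi l).2 (bj m).2), map_mul (T.pull F)]
      rfl
    show _ = c • T.tr X _
    rw [smul_eq_mul, h1]
    conv_rhs => rw [← bi.sum_repr (T.pullDeg F i (bi l)), ← bj.sum_repr (T.pullDeg F j (bj m))]
    simp only [Submodule.coe_sum, Submodule.coe_smul, Finset.sum_mul, Finset.mul_sum, map_sum,
      smul_mul_assoc, mul_smul_comm, map_smul, smul_eq_mul, Matrix.mul_apply, Matrix.transpose_apply,
      LinearMap.toMatrix_apply, M, Matrix.of_apply]
    refine Finset.sum_congr rfl fun a _ => Finset.sum_congr rfl fun b _ => ?_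
    ring
  obtain ⟨e1, e2⟩ := matrix_pairing_identities _ _ M c hM hrel
  rw [LinearMap.det_toMatrix, LinearMap.det_toMatrix] at e1
  rw [LinearMap.det_toMatrix, LinearMap.charpoly_toMatrix, LinearMap.charpoly_toMatrix] at e2
  exact ⟨e1, e2⟩

variable {k₀ : Type u} [Field k₀] [Finite k₀]

theorem tr_pull_frobenius [IsAlgClosed k] [Algebra k₀ k] {X : Scheme.{u}}
    (T : TheoryOn.{u, v, w} k (IsVar k) K) (f : X ⟶ Spec (CommRingCat.of k₀))
    (FX : X ⟶ X) (hFb : FX.base = 𝟙 _) (hle : ∀ U : X.Opens, U ≤ FX ⁻¹ᵁ U)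
    (hFapp : ∀ (U : X.Opens) (s : Γ(X, U)), (FX.appLE U U (hle U)).hom s = s ^ Nat.card k₀)
    (Xb : Var k) (π : Xb.obj.left ⟶ X)
    (hπ : IsPullback π Xb.obj.hom f (Spec.map (CommRingCat.ofHom (algebraMap k₀ k))))
    (F : Xb ⟶ Xb) (hF : sm F ≫ π = π ≫ FX) :
    ∀ a ∈ T.gr Xb (2 * (dim Xb.obj.left : ℤ)),
      T.tr Xb (T.pull F a) = (Nat.card k₀ : K) ^ dim Xb.obj.left * T.tr Xb a := by
  intro a ha
  obtain ⟨h1, h2⟩ := residueDegree_frobenius f FX hFb hle hFapp Xb π hπ F hF
  rw [tr_pull T F h2 rfl ha, h1, Nat.cast_pow]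

end GrothLib.WeilCoh
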