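import Groth.Agent.Lib.WeilCoh.FrobDet

/-!
The functional equation of the alternating product of reversed characteristic polynomials.
-/

set_option linter.style.haveILetI false

universe u v w

open CategoryTheory AlgebraicGeometry

namespace GrothLib.WeilCoh

open _root_.WeilCoh

section Combinatorics

lemma sum_range_two_mul_succ {M : Type*} [AddCommMonoid M] (g : ℕ → M) (d : ℕ) :
    ∑ i ∈ Finset.range (2 * d + 1), g i =
      (∑ i ∈ Finset.range (d + 1), g (2 * i)) + ∑ i ∈ Finset.range d, g (2 * i + 1) := by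
  induction d with
  | zero => simp
  | succ d ih =>
    rw [show 2 * (d + 1) + 1 = (2 * d + 1) + 1 + 1 from by ring, Finset.sum_range_succ,
      Finset.sum_range_succ, ih, Finset.sum_range_succ (fun i => g (2 * i)) (d + 1),
      Finset.sum_range_succ (fun i => g (2 * i + 1)) d, show 2 * d + 1 + 1 = 2 * (d + 1) from by ring]
    ac_rfl

lemma even_sum_of_symm (g : ℕ → ℕ) (n : ℕ) (h : ∀ i < n, g (n - 1 - i) = g i)
    (hmid : ∀ i, 2 * i + 1 = n → Even (g i)) : Even (∑ i ∈ Finset.range n, g i) := by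
  induction n using Nat.strong_induction_on generalizing g with
  | _ n ih =>
    match n, h, hmid, ih with
    | 0, _, _, _ => simp
    | 1, _, hmid, _ => simpa using hmid 0 rfl
    | n + 2, h, hmid, ih =>
      rw [Finset.sum_range_succ', Finset.sum_range_succ]
      have hlast : g (n + 1) = g 0 := by simpa using h 0 (by omega)
      have hrest := ih n (by omega) (fun i => g (i + 1))
        (fun i hi => by
          have := h (i + 1) (by omega)
          rwa [show n + 2 - 1 - (i + 1) = n - 1 - i + 1 by omega] at this)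
        (fun i hi => hmid (i + 1) (by omega))
      rw [show n + 1 = n + 1 from rfl] at hlast
      rw [add_assoc, hlast]
      exact hrest.add ⟨g 0, rfl⟩

end Combinatorics

section Abstract

variable {K : Type*} [Field K]

open Polynomial

theorem funEq_abstract (d : ℕ) (q : K) (hq : q ≠ 0) (b : ℕ → ℕ) (D : ℕ → K) (P : ℕ → K[X])
    (hb : ∀ i ≤ 2 * d, b (2 * d - i) = b i) (hmid : Odd d → Even (b d))
    (hD : ∀ i ≤ 2 * d, D i * D (2 * d - i) = (q ^ d) ^ b i)
    (hP : ∀ i ≤ 2 * d, Polynomial.aeval ((RatFunc.X : RatFunc K)⁻¹ * RatFunc.C (q ^ d)⁻¹) (P i) =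
      RatFunc.C ((-1) ^ b i * D i) * algebraMap K[X] (RatFunc K) (P (2 * d - i)) *
        ((RatFunc.C (q ^ d) * RatFunc.X) ^ b i)⁻¹) :
    ∃ ε : K, (ε = 1 ∨ ε = -1) ∧
      Polynomial.aeval ((RatFunc.X : RatFunc K)⁻¹ * RatFunc.C (q ^ d)⁻¹)
          (∏ i ∈ Finset.range d, P (2 * i + 1)) /
        Polynomial.aeval ((RatFunc.X : RatFunc K)⁻¹ * RatFunc.C (q ^ d)⁻¹)
          (∏ i ∈ Finset.range (d + 1), P (2 * i)) =
      RatFunc.C ε * RatFunc.C q ^ ((d : ℤ) * (∑ i ∈ Finset.range (2 * d + 1), (-1 : ℤ) ^ i * (b i : ℤ)) / 2) *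
        (RatFunc.X : RatFunc K) ^ (∑ i ∈ Finset.range (2 * d + 1), (-1 : ℤ) ^ i * (b i : ℤ)) *
        (algebraMap K[X] (RatFunc K) (∏ i ∈ Finset.range d, P (2 * i + 1)) /
         algebraMap K[X] (RatFunc K) (∏ i ∈ Finset.range (d + 1), P (2 * i))) := by
  set y : RatFunc K := RatFunc.C (q ^ d) * RatFunc.X with hy
  set Bo := ∑ i ∈ Finset.range d, b (2 * i + 1) with hBo
  set Be := ∑ i ∈ Finset.range (d + 1), b (2 * i) with hBe
  set cO := ∏ i ∈ Finset.range d, ((-1) ^ b (2 * i + 1) * D (2 * i + 1)) with hcO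
  set cE := ∏ i ∈ Finset.range (d + 1), ((-1) ^ b (2 * i) * D (2 * i)) with hcE
  set χ := ∑ i ∈ Finset.range (2 * d + 1), (-1 : ℤ) ^ i * (b i : ℤ) with hχ
  have hχ' : χ = (Be : ℤ) - Bo := by
    rw [hχ, sum_range_two_mul_succ, hBe, hBo, Nat.cast_sum, Nat.cast_sum, sub_eq_add_neg,
      ← Finset.sum_neg_distrib]
    congr 1
    · refine Finset.sum_congr rfl fun i _ => ?_
      rw [pow_mul]; simp
    · refine Finset.sum_congr rfl fun i _ => ?_
      rw [pow_succ, pow_mul]; simp
  have hprodO : ∏ i ∈ Finset.range d, algebraMap K[X] (RatFunc K) (P (2 * d - (2 * i + 1))) =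
      algebraMap K[X] (RatFunc K) (∏ i ∈ Finset.range d, P (2 * i + 1)) := by
    rw [map_prod, ← Finset.prod_range_reflect _ d]
    refine Finset.prod_congr rfl fun i hi => ?_
    rw [Finset.mem_range] at hi
    congr 2; omega
  have hprodE : ∏ i ∈ Finset.range (d + 1), algebraMap K[X] (RatFunc K) (P (2 * d - 2 * i)) =
      algebraMap K[X] (RatFunc K) (∏ i ∈ Finset.range (d + 1), P (2 * i)) := by
    rw [map_prod, ← Finset.prod_range_reflect _ (d + 1)]
    refine Finset.prod_congr rfl fun i hi => ?_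
    rw [Finset.mem_range] at hi
    congr 2; omega
  have hO : Polynomial.aeval ((RatFunc.X : RatFunc K)⁻¹ * RatFunc.C (q ^ d)⁻¹)
      (∏ i ∈ Finset.range d, P (2 * i + 1)) =
      RatFunc.C cO * algebraMap K[X] (RatFunc K) (∏ i ∈ Finset.range d, P (2 * i + 1)) * (y ^ Bo)⁻¹ := by
    rw [map_prod (Polynomial.aeval _), Finset.prod_congr rfl (fun i hi => hP (2 * i + 1) (by
      rw [Finset.mem_range] at hi; omega)), Finset.prod_mul_distrib, Finset.prod_mul_distrib, hprodO,
      ← map_prod RatFunc.C, Finset.prod_inv_distrib, Finset.prod_pow_eq_pow_sum]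
  have hE : Polynomial.aeval ((RatFunc.X : RatFunc K)⁻¹ * RatFunc.C (q ^ d)⁻¹)
      (∏ i ∈ Finset.range (d + 1), P (2 * i)) =
      RatFunc.C cE * algebraMap K[X] (RatFunc K) (∏ i ∈ Finset.range (d + 1), P (2 * i)) * (y ^ Be)⁻¹ := by
    rw [map_prod (Polynomial.aeval _), Finset.prod_congr rfl (fun i hi => hP (2 * i) (by
      rw [Finset.mem_range] at hi; omega)), Finset.prod_mul_distrib, Finset.prod_mul_distrib, hprodE,
      ← map_prod RatFunc.C, Finset.prod_inv_distrib, Finset.prod_pow_eq_pow_sum]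
  -- squares of the constants
  have hcO2 : cO ^ 2 = (q ^ d) ^ Bo := by
    have h1 : cO = ∏ i ∈ Finset.range d, ((-1) ^ b (2 * i + 1) * D (2 * d - (2 * i + 1))) := by
      rw [hcO, ← Finset.prod_range_reflect _ d]
      refine Finset.prod_congr rfl fun i hi => ?_
      rw [Finset.mem_range] at hi
      have h2 : 2 * (d - 1 - i) + 1 = 2 * d - (2 * i + 1) := by omega
      rw [h2, hb _ (by omega)]
    conv_lhs => rw [sq]; arg 2; rw [h1]
    rw [hcO, ← Finset.prod_mul_distrib, hBo, ← Finset.prod_pow_eq_pow_sum]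
    refine Finset.prod_congr rfl fun i hi => ?_
    rw [Finset.mem_range] at hi
    rw [mul_mul_mul_comm, hD _ (by omega), ← mul_pow, neg_one_mul, neg_neg, one_pow, one_mul]
  have hcE2 : cE ^ 2 = (q ^ d) ^ Be := by
    have h1 : cE = ∏ i ∈ Finset.range (d + 1), ((-1) ^ b (2 * i) * D (2 * d - 2 * i)) := by
      rw [hcE, ← Finset.prod_range_reflect _ (d + 1)]
      refine Finset.prod_congr rfl fun i hi => ?_
      rw [Finset.mem_range] at hi
      have h2 : 2 * (d + 1 - 1 - i) = 2 * d - 2 * i := by omega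
      rw [h2, hb _ (by omega)]
    conv_lhs => rw [sq]; arg 2; rw [h1]
    rw [hcE, ← Finset.prod_mul_distrib, hBe, ← Finset.prod_pow_eq_pow_sum]
    refine Finset.prod_congr rfl fun i hi => ?_
    rw [Finset.mem_range] at hi
    rw [mul_mul_mul_comm, hD _ (by omega), ← mul_pow, neg_one_mul, neg_neg, one_pow, one_mul]
  have hcE0 : cE ≠ 0 := by
    intro h
    rw [h, zero_pow (by norm_num)] at hcE2
    exact pow_ne_zero _ (pow_ne_zero _ hq) hcE2.symm
  -- parity
  have hpar : Even ((d : ℤ) * χ) := by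
    rcases Nat.even_or_odd d with hd | hd
    · exact ((Int.even_coe_nat d).2 hd).mul_right _
    · refine Even.mul_left ?_ _
      rw [hχ']
      have hBe2 : Even Be := even_sum_of_symm (fun i => b (2 * i)) (d + 1)
        (fun i hi => by
          show b (2 * (d + 1 - 1 - i)) = b (2 * i)
          rw [show 2 * (d + 1 - 1 - i) = 2 * d - 2 * i by omega]; exact hb _ (by omega))
        (fun i hi => by obtain ⟨m, hm⟩ := hd; omega)
      have hBo2 : Even Bo := even_sum_of_symm (fun i => b (2 * i + 1)) d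
        (fun i hi => by
          show b (2 * (d - 1 - i) + 1) = b (2 * i + 1)
          rw [show 2 * (d - 1 - i) + 1 = 2 * d - (2 * i + 1) by omega]; exact hb _ (by omega))
        (fun i hi => by show Even (b (2 * i + 1)); rw [hi]; exact hmid hd)
      exact ((Int.even_coe_nat _).2 hBe2).sub ((Int.even_coe_nat _).2 hBo2)
  obtain ⟨h, hh⟩ := hpar
  have hhalf : (d : ℤ) * χ / 2 = h := by omega
  refine ⟨cO / cE * (q ^ d) ^ χ / q ^ h, sq_eq_one_iff.1 ?_, ?_⟩
  · rw [div_pow, mul_pow, div_pow, hcO2, hcE2, ← zpow_natCast ((q ^ d) ^ χ) 2, ← zpow_mul,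
      ← zpow_natCast (q ^ h) 2, ← zpow_mul, ← zpow_natCast (q ^ d) Bo, ← zpow_natCast (q ^ d) Be,
      ← zpow_sub₀ (pow_ne_zero _ hq), ← zpow_add₀ (pow_ne_zero _ hq),
      div_eq_one_iff_eq (zpow_ne_zero _ hq), ← zpow_natCast q d, ← zpow_mul]
    congr 1
    rw [hχ'] at hh ⊢
    push_cast
    linarith
  · rw [hO, hE, hhalf]
    have hy0 : y ≠ 0 := mul_ne_zero
      ((map_ne_zero_iff _ (RingHom.injective (RatFunc.C (K := K)))).2 (pow_ne_zero _ hq)) RatFunc.X_ne_zero
    have hCh : RatFunc.C (q ^ h) ≠ 0 :=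
      (map_ne_zero_iff _ (RingHom.injective (RatFunc.C (K := K)))).2 (zpow_ne_zero _ hq)
    rw [← map_zpow₀ RatFunc.C q h, map_div₀, map_mul, map_div₀, map_zpow₀ RatFunc.C (q ^ d) χ,
      div_mul_cancel₀ _ hCh, mul_assoc _ (RatFunc.C (q ^ d) ^ χ) (RatFunc.X ^ χ), ← mul_zpow, ← hy, hχ',
      zpow_sub₀ hy0, zpow_natCast, zpow_natCast]
    simp only [div_eq_mul_inv, mul_inv, inv_inv]
    ring

end Abstract

variable {k : Type u} [Field k] {P : ObjectProperty (Over (Spec (CommRingCat.of k)))}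
variable {K : Type v} [Field K] [CharZero K] (T : TheoryOn.{u, v, w} k P K)

/-- In odd middle degree the dimension is even. -/
lemma even_finrank_middle (X : P.FullSubcategory) (hd : Odd (dim X.obj.left)) :
    Even (Module.finrank K ↥(T.gr X (dim X.obj.left : ℤ))) := by
  classical
  set i : ℤ := (dim X.obj.left : ℤ)
  haveI := T.duality X i i (by ring)
  set π := pairing K (T.gr X i) (T.gr X i) (T.tr X)
  let b := Module.finBasis K ↥(T.gr X i)
  let M : Matrix (Fin (Module.finrank K ↥(T.gr X i))) (Fin (Module.finrank K ↥(T.gr X i))) K :=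
    Matrix.of fun l m => T.tr X ((b l : T.H X) * (b m : T.H X))
  have hM : IsUnit M.det := by
    have h1 := LinearEquiv.isUnit_det π.toPerfPair b b.dualBasis
    rw [← Matrix.det_transpose] at h1
    convert h1 using 2
    ext l m
    rw [Matrix.transpose_apply, LinearMap.toMatrix_apply, Module.Basis.dualBasis_repr]
    rfl
  have hskew : M.transpose = -M := by
    ext l m
    show T.tr X ((b m : T.H X) * (b l : T.H X)) = -T.tr X ((b l : T.H X) * (b m : T.H X))
    rw [T.gradedComm X _ _ _ _ (b m).2 (b l).2, map_smul, smul_eq_mul, Int.natAbs_natCast,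
      (hd.mul hd).neg_one_pow, neg_one_mul]
  by_contra hodd
  have h := congrArg Matrix.det hskew
  rw [Matrix.det_transpose, Matrix.det_neg, Fintype.card_fin,
    (Nat.not_even_iff_odd.1 hodd).neg_one_pow, neg_one_mul] at h
  exact hM.ne_zero (by linear_combination h / 2)

open Polynomial in
theorem functional_equation {X : P.FullSubcategory} (F : X ⟶ X) (q : K) (hq : q ≠ 0)
    (hc : ∀ a ∈ T.gr X (2 * (dim X.obj.left : ℤ)),
      T.tr X (T.pull F a) = q ^ dim X.obj.left * T.tr X a) :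
    ∃ ε : K, (ε = 1 ∨ ε = -1) ∧
      Polynomial.aeval ((RatFunc.X : RatFunc K)⁻¹ * RatFunc.C (q ^ dim X.obj.left)⁻¹)
          (∏ i ∈ Finset.range (dim X.obj.left),
            (LinearMap.charpoly (T.pullDeg F ((2 * i + 1 : ℕ) : ℤ))).reverse) /
        Polynomial.aeval ((RatFunc.X : RatFunc K)⁻¹ * RatFunc.C (q ^ dim X.obj.left)⁻¹)
          (∏ i ∈ Finset.range (dim X.obj.left + 1),
            (LinearMap.charpoly (T.pullDeg F ((2 * i : ℕ) : ℤ))).reverse) =
      RatFunc.C ε * RatFunc.C q ^ ((dim X.obj.left : ℤ) * (∑ i ∈ Finset.range (2 * dim X.obj.left + 1), (-1 : ℤ) ^ i * (Module.finrank K ↥(T.gr X (i : ℤ)) : ℤ)) / 2) *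
        (RatFunc.X : RatFunc K) ^ (∑ i ∈ Finset.range (2 * dim X.obj.left + 1), (-1 : ℤ) ^ i * (Module.finrank K ↥(T.gr X (i : ℤ)) : ℤ)) *
        (algebraMap (Polynomial K) (RatFunc K)
          (∏ i ∈ Finset.range (dim X.obj.left),
            (LinearMap.charpoly (T.pullDeg F ((2 * i + 1 : ℕ) : ℤ))).reverse) /
         algebraMap (Polynomial K) (RatFunc K)
          (∏ i ∈ Finset.range (dim X.obj.left + 1),
            (LinearMap.charpoly (T.pullDeg F ((2 * i : ℕ) : ℤ))).reverse)) := by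
  set d := dim X.obj.left
  have hidx : ∀ i ≤ 2 * d, 2 * (d : ℤ) - (i : ℤ) = ((2 * d - i : ℕ) : ℤ) := fun i hi => by omega
  refine funEq_abstract d q hq (fun i => Module.finrank K ↥(T.gr X (i : ℤ)))
    (fun i => LinearMap.det (T.pullDeg F (i : ℤ)))
    (fun i => (LinearMap.charpoly (T.pullDeg F (i : ℤ))).reverse) (fun i hi => ?_)
    (fun hd => even_finrank_middle T X hd) (fun i hi => ?_) (fun i hi => ?_)
  · haveI := T.duality X (i : ℤ) ((2 * d - i : ℕ) : ℤ) (by omega)
    show Module.finrank K ↥(T.gr X ((2 * d - i : ℕ) : ℤ)) = Module.finrank K ↥(T.gr X (i : ℤ))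
    rw [(pairing K (T.gr X (i : ℤ)) (T.gr X ((2 * d - i : ℕ) : ℤ)) (T.tr X)).toPerfPair.finrank_eq,
      Subspace.dual_finrank_eq]
  · have h := (det_charpoly_compl T F _ hc (i : ℤ)).1
    rw [hidx i hi] at h
    exact h
  · obtain ⟨h1, h⟩ := det_charpoly_compl T F _ hc (i : ℤ)
    rw [hidx i hi] at h
    show Polynomial.aeval _ (LinearMap.charpoly (T.pullDeg F (i : ℤ))).reverse = _
    set y : RatFunc K := RatFunc.C (q ^ d) * RatFunc.X with hy
    have hC : ∀ c : K, RatFunc.C c = algebraMap K[X] (RatFunc K) (C c) := fun c => (RatFunc.algebraMap_C c).symm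
    have hy0 : y ≠ 0 := mul_ne_zero
      ((map_ne_zero_iff _ (RingHom.injective (RatFunc.C (K := K)))).2 (pow_ne_zero _ hq)) RatFunc.X_ne_zero
    letI := invertibleOfNonzero hy0
    have hu : (RatFunc.X : RatFunc K)⁻¹ * RatFunc.C (q ^ d)⁻¹ = ⅟y := by
      rw [invOf_eq_inv, hy, mul_inv, map_inv₀, mul_comm]
    have hrev : Polynomial.aeval (⅟y) (LinearMap.charpoly (T.pullDeg F (i : ℤ))).reverse *
        y ^ (LinearMap.charpoly (T.pullDeg F (i : ℤ))).natDegree =
        Polynomial.aeval y (LinearMap.charpoly (T.pullDeg F (i : ℤ))) :=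
      eval₂_reverse_mul_pow (algebraMap K (RatFunc K)) y _
    rw [LinearMap.charpoly_natDegree] at hrev
    rw [hu, eq_mul_inv_iff_mul_eq₀ (pow_ne_zero _ hy0), hrev]
    have h' := congrArg (algebraMap K[X] (RatFunc K)) h
    rw [smul_eq_C_mul, map_mul, map_mul, ← hC, map_pow, map_neg, map_one] at h'
    have hcomp : algebraMap K[X] (RatFunc K)
        ((LinearMap.charpoly (T.pullDeg F (i : ℤ))).comp (C (q ^ d) * Polynomial.X)) =
        Polynomial.aeval y (LinearMap.charpoly (T.pullDeg F (i : ℤ))) := by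
      rw [show (LinearMap.charpoly (T.pullDeg F (i : ℤ))).comp (C (q ^ d) * Polynomial.X) =
          Polynomial.aeval (C (q ^ d) * Polynomial.X) (LinearMap.charpoly (T.pullDeg F (i : ℤ))) from rfl,
        ← Polynomial.aeval_algebraMap_apply, map_mul, ← hC, RatFunc.algebraMap_X]
    rw [hcomp] at h'
    rw [map_mul, map_pow, map_neg, map_one, mul_assoc, h', ← mul_assoc, ← mul_pow, neg_one_mul,
      neg_neg, one_pow, one_mul]

end GrothLib.WeilCoh
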