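import Groth.Agent.Lib.WeilCoh.Point

/-!
Classes of graphs.
-/

set_option linter.style.haveILetI false

universe u v w

open CategoryTheory AlgebraicGeometry

namespace GrothLib.WeilCoh

open _root_.WeilCoh

variable {k : Type u} [Field k] {K : Type v} [Field K] (T : TheoryOn.{u, v, w} k (IsVar k) K)

lemma pull_section {X P : Var k} (s : X ⟶ P) (r : P ⟶ X) (h : s ≫ r = 𝟙 X) (b : T.H X) :
    T.pull s (T.pull r b) = b := by
  rw [← AlgHom.comp_apply, ← T.pull_comp, h, T.pull_id]; rfl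

lemma pull_pull {X Y Z : Var k} (f : X ⟶ Y) (g : Y ⟶ Z) (h : X ⟶ Z) (e : f ≫ g = h) (b : T.H Z) :
    T.pull f (T.pull g b) = T.pull h b := by
  rw [← AlgHom.comp_apply, ← T.pull_comp, e]

lemma pdim_section {X P : Var k} (s : X ⟶ P) (r : P ⟶ X) (h : s ≫ r = 𝟙 X) (η : X.obj.left) :
    pdim P.obj.left (sm s η) = pdim X.obj.left η :=
  pdim_eq_of_residueDegree_ne_zero s η (by rw [residueDegree_section s r h η]; exact one_ne_zero)

lemma pull_eq_push_cl_graph_mul {X Y P : Var k} [IrreducibleSpace ↥X.obj.left] (f : X ⟶ Y)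
    (p : P ⟶ X) (q : P ⟶ Y) (j : X ⟶ P) (hjp : j ≫ p = 𝟙 X) (hjq : j ≫ q = f)
    (i : ℤ) (β : ↥(T.gr Y i)) :
    (T.push p (2 * (codim P.obj.left (sm j (genericPoint ↥X.obj.left)) : ℤ) + i)
        ⟨T.cl P (sm j (genericPoint ↥X.obj.left)) * T.pull q (β : T.H Y),
          SetLike.mul_mem_graded (T.cl_mem P (sm j (genericPoint ↥X.obj.left)))
            (T.pull_mem q i β β.2)⟩ : T.H X) = T.pull f (β : T.H Y) := by
  set η := genericPoint ↥X.obj.left
  have hd : pdim P.obj.left (sm j η) = dim X.obj.left :=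
    (pdim_section j p hjp η).trans (pdim_genericPoint X)
  refine push_eq T p _ _ (mem_of_deg_eq T ?_ (T.pull_mem f i β β.2)) fun b hb => ?_
  · rw [codim_cast, hd]; ring
  have hm : T.pull q (β : T.H Y) * T.pull p b ∈ T.gr P (2 * (pdim X.obj.left η : ℤ)) :=
    mul_mem T (by rw [codim_cast, hd, pdim_genericPoint]; ring)
      (T.pull_mem q i β β.2) (T.pull_mem p _ b hb)
  have h := T.cl_push j η _ hm
  rw [map_mul (T.pull j), pull_section T j p hjp, pull_pull T j q f hjq, cl_genericPoint T X,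
    one_mul, residueDegree_section j p hjp η, Nat.cast_one, one_mul] at h
  show T.tr X (T.pull f β * b) = T.tr P (T.cl P (sm j η) * T.pull q β * T.pull p b)
  rw [mul_assoc, h]

lemma push_pull_mul_cl_diagonal {X P : Var k} (p q : P ⟶ X) (d : X ⟶ P)
    (hdp : d ≫ p = 𝟙 X) (hdq : d ≫ q = 𝟙 X) (η : ↥X.obj.left) (i : ℤ) (a : ↥(T.gr X i)) :
    (T.push q (i + 2 * (codim P.obj.left (sm d η) : ℤ))
        ⟨T.pull p (a : T.H X) * T.cl P (sm d η),
          SetLike.mul_mem_graded (T.pull_mem p i a a.2) (T.cl_mem P (sm d η))⟩ : T.H X) =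
      (a : T.H X) * T.cl X η := by
  have hd : pdim P.obj.left (sm d η) = pdim X.obj.left η := pdim_section d p hdp η
  refine push_eq T q _ _ (mul_mem T ?_ a.2 (T.cl_mem X η)) fun b hb => ?_
  · rw [codim_cast, codim_cast, hd]; ring
  have hm : T.pull p (a : T.H X) * T.pull q b ∈ T.gr P (2 * (pdim X.obj.left η : ℤ)) :=
    mul_mem T (by rw [codim_cast, hd]; ring) (T.pull_mem p i a a.2) (T.pull_mem q _ b hb)
  have h := T.cl_push d η _ hm
  rw [map_mul (T.pull d), pull_section T d p hdp, pull_section T d q hdq,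
    residueDegree_section d p hdp η, Nat.cast_one, one_mul] at h
  show T.tr X ((a : T.H X) * T.cl X η * b) = T.tr P (T.pull p a * T.cl P (sm d η) * T.pull q b)
  rw [← mul_comm_of_even T (even_two_mul _) (T.cl_mem X η) a.2,
    ← mul_comm_of_even T (even_two_mul _) (T.cl_mem P (sm d η)) (T.pull_mem p i a a.2),
    mul_assoc, mul_assoc, h]

end GrothLib.WeilCoh
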