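import Groth.Agent.Lib.WeilCoh.Dual
import Groth.Agent.Lib.WeilCoh.Graph

/-!
The class of a graph and the Lefschetz trace formula.
-/

set_option linter.style.haveILetI false

universe u v w

open CategoryTheory AlgebraicGeometry

namespace GrothLib.WeilCoh

open _root_.WeilCoh

lemma neg_one_pow_natAbs_congr {K : Type*} [Monoid K] [HasDistribNeg K] {i j : ℤ} (h : Even (i + j)) :
    (-1 : K) ^ i.natAbs = (-1 : K) ^ j.natAbs :=
  neg_one_pow_congr (by rw [Int.natAbs_even, Int.natAbs_even]; exact Int.even_add.1 h)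

lemma neg_one_pow_natAbs_mul_congr {K : Type*} [Monoid K] [HasDistribNeg K] {i i' j j' : ℤ}
    (hi : Even (i + i')) (hj : Even (j + j')) :
    (-1 : K) ^ (i.natAbs * j.natAbs) = (-1 : K) ^ (i'.natAbs * j'.natAbs) := by
  rw [← Int.natAbs_mul, ← Int.natAbs_mul]
  refine neg_one_pow_natAbs_congr ?_
  rw [Int.even_add, Int.even_mul, Int.even_mul, Int.even_add.1 hi, Int.even_add.1 hj]

variable {k : Type u} [Field k] {K : Type v} [Field K] (T : TheoryOn.{u, v, w} k (IsVar k) K)

/-- The class of a graph in terms of dual bases. -/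
theorem cl_graph_eq_sum {X Q : Var k} [IrreducibleSpace ↥X.obj.left] (φ : X ⟶ X)
    (p q : Q ⟶ X) (hQ : IsProd p q) (j : X ⟶ Q) (hjp : j ≫ p = 𝟙 X) (hjq : j ≫ q = φ)
    (ι : ℕ → Type*) [∀ r, Fintype (ι r)] [∀ r, DecidableEq (ι r)]
    (e : (r : ℕ) → Module.Basis (ι r) K ↥(T.gr X (r : ℤ)))
    (f : (r : ℕ) → ι r → ↥(T.gr X (2 * (dim X.obj.left : ℤ) - r)))
    (hef : ∀ r, r ≤ 2 * dim X.obj.left → ∀ i l : ι r,
      T.tr X ((f r l : T.H X) * (e r i : T.H X)) = if i = l then 1 else 0) :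
    T.cl Q (sm j (genericPoint ↥X.obj.left)) =
      ∑ r ∈ Finset.range (2 * dim X.obj.left + 1), ∑ i : ι r,
        T.pull p (T.pull φ (e r i : T.H X)) * T.pull q (f r i : T.H X) := by
  classical
  have hd := dim_prod T p q hQ
  set η := genericPoint ↥X.obj.left with hη
  have hj : pdim Q.obj.left (sm j η) = dim X.obj.left :=
    (pdim_section j p hjp η).trans (pdim_genericPoint X)
  have hL : T.cl Q (sm j η) ∈ T.gr Q (2 * (dim X.obj.left : ℤ)) :=
    mem_of_deg_eq T (by rw [codim_cast, hj]; omega) (T.cl_mem Q _)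
  have hR : ∑ r ∈ Finset.range (2 * dim X.obj.left + 1), ∑ i : ι r,
      T.pull p (T.pull φ (e r i : T.H X)) * T.pull q (f r i : T.H X) ∈
        T.gr Q (2 * (dim X.obj.left : ℤ)) :=
    Submodule.sum_mem _ fun r _ => Submodule.sum_mem _ fun i _ =>
      mul_mem T (by ring) (T.pull_mem p _ _ (T.pull_mem φ _ _ (e r i).2)) (T.pull_mem q _ _ (f r i).2)
  refine eq_of_tr_pull_mul_pull T p q hQ hL hR fun s t hst a ha b hb => ?_
  have hm : T.pull p a * T.pull q b ∈ T.gr Q (2 * (pdim X.obj.left η : ℤ)) :=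
    mul_mem T (by rw [hη, pdim_genericPoint]; omega) (T.pull_mem p s a ha) (T.pull_mem q t b hb)
  have h := T.cl_push j η _ hm
  rw [map_mul (T.pull j), pull_section T j p hjp, pull_pull T j q φ hjq, hη, cl_genericPoint T X,
    one_mul, ← hη, residueDegree_section j p hjp η, Nat.cast_one, one_mul] at h
  rw [← h]
  -- the right hand side
  simp only [Finset.sum_mul, map_sum]
  have key : ∀ (r : ℕ) (i : ι r), T.tr Q (T.pull p (T.pull φ (e r i : T.H X)) *
      T.pull q (f r i : T.H X) * (T.pull p a * T.pull q b)) =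
        if (r : ℤ) = t then T.tr X (a * T.pull φ (e r i : T.H X)) * T.tr X ((f r i : T.H X) * b)
        else 0 := by
    intro r i
    have hfr : T.pull q (f r i : T.H X) * T.pull p a
        = ((-1 : K) ^ ((2 * (dim X.obj.left : ℤ) - r).natAbs * s.natAbs)) •
          (T.pull p a * T.pull q (f r i : T.H X)) :=
      T.gradedComm Q _ _ _ _ (T.pull_mem q _ _ (f r i).2) (T.pull_mem p s a ha)
    rw [mul_assoc, ← mul_assoc (T.pull q _), hfr, smul_mul_assoc, mul_smul_comm, map_smul,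
      mul_assoc, ← map_mul (T.pull q), ← mul_assoc, ← map_mul (T.pull p),
      tr_pull_mul_pull T p q hQ, smul_eq_mul]
    split_ifs with hrt
    · rw [T.gradedComm X _ _ _ _ (T.pull_mem φ _ _ (e r i).2) ha, map_smul, smul_eq_mul,
        neg_one_pow_natAbs_mul_congr (i' := (r : ℤ)) (j' := (r : ℤ))
          (by exact ⟨dim X.obj.left, by ring⟩) (by exact ⟨dim X.obj.left, by omega⟩),
        neg_one_pow_natAbs_mul_congr (K := K) (i := (r : ℤ)) (j := s) (i' := (r : ℤ)) (j' := (r : ℤ))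
          (by exact ⟨r, rfl⟩) (by exact ⟨dim X.obj.left, by omega⟩)]
      rw [mul_assoc, ← mul_assoc ((-1 : K) ^ _), ← mul_pow, neg_one_mul, neg_neg, one_pow, one_mul]
    · rw [T.tr_vanish X _ _ (SetLike.mul_mem_graded (f r i).2 hb) (by omega), mul_zero, mul_zero]
  simp only [key]
  by_cases ht : 0 ≤ t ∧ t ≤ 2 * (dim X.obj.left : ℤ)
  · obtain ⟨ht0, ht1⟩ := ht
    lift t to ℕ using ht0
    rw [Finset.sum_eq_single t]
    · simp only [if_true]
      have hb' : (⟨b, hb⟩ : ↥(T.gr X (t : ℤ))) = ∑ i, T.tr X ((f t i : T.H X) * b) • e t i := by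
        conv_lhs => rw [← (e t).sum_repr ⟨b, hb⟩]
        refine Finset.sum_congr rfl fun i _ => ?_
        congr 1
        exact (repr_eq_tr T (e t) (fun i => (f t i : T.H X))
          (fun l m => hef t (by omega) l m) ⟨b, hb⟩ i).symm
      conv_lhs => rw [show b = ((⟨b, hb⟩ : ↥(T.gr X (t : ℤ))) : T.H X) from rfl, hb']
      simp only [Submodule.coe_sum, Submodule.coe_smul, map_sum, map_smul, Finset.mul_sum,
        mul_smul_comm, smul_eq_mul]
      exact Finset.sum_congr rfl fun i _ => mul_comm _ _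
    · intro r _ hr
      exact Finset.sum_eq_zero fun i _ => if_neg (by exact_mod_cast hr)
    · intro h'
      simp only [Finset.mem_range, not_lt] at h'
      omega
  · have hb0 : b = 0 := eq_zero_of_vanish T (by omega) hb
    subst hb0
    simp

/-- The Lefschetz trace formula. -/
theorem tr_cl_graph_mul_cl_diag {X Q : Var k} [IrreducibleSpace ↥X.obj.left] (φ : X ⟶ X)
    (p q : Q ⟶ X) (hQ : IsProd p q) (j d : X ⟶ Q)
    (hjp : j ≫ p = 𝟙 X) (hjq : j ≫ q = φ) (hdp : d ≫ p = 𝟙 X) (hdq : d ≫ q = 𝟙 X) :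
    T.tr Q (T.cl Q (sm j (genericPoint ↥X.obj.left)) * T.cl Q (sm d (genericPoint ↥X.obj.left))) =
      ∑ i ∈ Finset.range (2 * dim X.obj.left + 1),
        (-1 : K) ^ i * LinearMap.trace K ↥(T.gr X (i : ℤ)) (T.pullDeg φ (i : ℤ)) := by
  classical
  have hdim := dim_prod T p q hQ
  set η := genericPoint ↥X.obj.left with hη
  let e : (r : ℕ) → Module.Basis (Fin (Module.finrank K ↥(T.gr X (r : ℤ)))) K ↥(T.gr X (r : ℤ)) :=
    fun r => Module.finBasis K _
  choose g hg hge using fun r : ℕ => exists_dual T (X := X)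
    (j := 2 * (dim X.obj.left : ℤ) - r) (by ring) (e r)
  let f : (r : ℕ) → Fin (Module.finrank K ↥(T.gr X (r : ℤ))) →
      ↥(T.gr X (2 * (dim X.obj.left : ℤ) - r)) := fun r m => ((-1 : K) ^ r) • ⟨g r m, hg r m⟩
  have hef : ∀ r, r ≤ 2 * dim X.obj.left → ∀ i l,
      T.tr X ((f r l : T.H X) * (e r i : T.H X)) = if i = l then 1 else 0 := by
    intro r _ i l
    simp only [f, Submodule.coe_smul, smul_mul_assoc, map_smul, smul_eq_mul]
    rw [T.gradedComm X _ _ _ _ (hg r l) (e r i).2, map_smul, smul_eq_mul, hge,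
      neg_one_pow_natAbs_mul_congr (i' := (r : ℤ)) (j' := (r : ℤ))
        (by exact ⟨dim X.obj.left, by ring⟩) (by exact ⟨r, rfl⟩), Int.natAbs_natCast, pow_mul,
      ← mul_assoc]
    rcases Nat.even_or_odd r with hr | hr
    · simp [hr.neg_one_pow]
    · simp [hr.neg_one_pow]
  have hcl := cl_graph_eq_sum T φ p q hQ j hjp hjq _ e f hef
  have hj : pdim Q.obj.left (sm j η) = dim X.obj.left :=
    (pdim_section j p hjp η).trans (pdim_genericPoint X)
  have hm : T.cl Q (sm j η) ∈ T.gr Q (2 * (pdim X.obj.left η : ℤ)) :=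
    mem_of_deg_eq T (by rw [codim_cast, hj, hη, pdim_genericPoint]; omega) (T.cl_mem Q _)
  have h := T.cl_push d η _ hm
  rw [hη, cl_genericPoint T X, one_mul, ← hη, residueDegree_section d p hdp η, Nat.cast_one,
    one_mul] at h
  rw [mul_comm_of_even T (even_two_mul _) (T.cl_mem Q _) (T.cl_mem Q _), ← h, hη, hcl, map_sum, map_sum]
  refine Finset.sum_congr rfl fun r hr => ?_
  rw [map_sum, map_sum, LinearMap.trace_eq_matrix_trace K (e r), Matrix.trace, Finset.mul_sum]
  refine Finset.sum_congr rfl fun i _ => ?_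
  rw [map_mul (T.pull d), pull_section T d p hdp, pull_section T d q hdq,
    T.gradedComm X _ _ _ _ (T.pull_mem φ _ _ (e r i).2) (f r i).2, map_smul, smul_eq_mul,
    neg_one_pow_natAbs_mul_congr (i' := (r : ℤ)) (j' := (r : ℤ))
      (by exact ⟨r, rfl⟩) (by exact ⟨dim X.obj.left, by ring⟩), Int.natAbs_natCast,
    Matrix.diag_apply, LinearMap.toMatrix_apply]
  congr 1
  · rw [pow_mul]
    rcases Nat.even_or_odd r with hr | hr <;> simp [hr.neg_one_pow]
  · exact repr_eq_tr T (e r) (fun i => (f r i : T.H X))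
      (fun l m => hef r (by rw [Finset.mem_range] at hr; omega) l m) (T.pullDeg φ r (e r i)) i

end GrothLib.WeilCoh
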