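import Groth.Agent.Lib.WeilCoh.CorrTrace

/-!
Vanishing of intersection numbers with classes acting nilpotently.
-/

set_option linter.style.haveILetI false

universe u v w

open CategoryTheory AlgebraicGeometry

namespace GrothLib.WeilCoh

open _root_.WeilCoh

variable {k : Type u} [Field k]
variable {K : Type v} [Field K]

lemma coe_corr_congr {P : ObjectProperty (Over (Spec (CommRingCat.of k)))} (T : TheoryOn.{u, v, w} k P K)
    {X Y Q : P.FullSubcategory} (p : Q ⟶ X) (q : Q ⟶ Y) {l l' : ℤ} (hl : l = l')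
    {φ : ↥(T.gr Q l)} {φ' : ↥(T.gr Q l')} (hφ : (φ : T.H Q) = φ') {i i' : ℤ} (hi : i = i')
    {a : ↥(T.gr X i)} {a' : ↥(T.gr X i')} (ha : (a : T.H X) = a') :
    (corr T p q φ i a : T.H Y) = (corr T p q φ' i' a' : T.H Y) := by
  subst hl hi
  obtain rfl := Subtype.ext hφ
  obtain rfl := Subtype.ext ha
  rfl

variable (T : TheoryOn.{u, v, w} k (IsVar k) K)

lemma involution {X Q : Var k} {p q : Q ⟶ X} (h : IsProd p q) {σ : Q ⟶ Q} (h₁ : σ ≫ p = q)
    (h₂ : σ ≫ q = p) : σ ≫ σ = 𝟙 Q := by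
  apply ObjectProperty.hom_ext
  ext1
  apply h.hom_ext
  · exact congrArg (fun φ => φ.hom.left)
      (show (σ ≫ σ) ≫ p = 𝟙 Q ≫ p by rw [Category.assoc, h₁, h₂, Category.id_comp])
  · exact congrArg (fun φ => φ.hom.left)
      (show (σ ≫ σ) ≫ q = 𝟙 Q ≫ q by rw [Category.assoc, h₂, h₁, Category.id_comp])

lemma pull_swap_mem_span {X Q : Var k} {p q : Q ⟶ X} (h : IsProd p q) {σ : Q ⟶ Q} (h₁ : σ ≫ p = q)
    (h₂ : σ ≫ q = p) {v : T.H Q} (hv : v ∈ Submodule.span K (Set.range (T.cl Q))) :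
    T.pull σ v ∈ Submodule.span K (Set.range (T.cl Q)) := by
  induction hv using Submodule.span_induction with
  | mem x hx =>
    obtain ⟨ξ, rfl⟩ := hx
    have hσσ : ∀ b : T.H Q, T.pull σ (T.pull σ b) = b := fun b =>
      pull_section T σ σ (involution h h₁ h₂) b
    have e : (T.push σ (2 * (codim Q.obj.left ξ : ℤ)) ⟨T.cl Q ξ, T.cl_mem Q ξ⟩ : T.H Q) =
        T.pull σ (T.cl Q ξ) := by
      refine push_eq T σ _ _ (mem_of_deg_eq T (by ring) (T.pull_mem σ _ _ (T.cl_mem Q ξ))) fun b _ => ?_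
      rw [← tr_pull_swap T p q h p q h σ h₁ h₂, map_mul (T.pull σ), hσσ]
    rw [← e, push_cl T σ ξ]
    exact Submodule.smul_mem _ _ (Submodule.subset_span (Set.mem_range_self _))
  | zero => rw [map_zero]; exact zero_mem _
  | add x y _ _ hx hy => rw [map_add]; exact add_mem hx hy
  | smul c x _ hx => rw [map_smul]; exact Submodule.smul_mem _ _ hx

theorem tr_mul_eq_zero_of_nilpotent {X Q : Var k} (p q : Q ⟶ X) (hQ : IsProd p q) (σ : Q ⟶ Q)
    (hσp : σ ≫ p = q) (hσq : σ ≫ q = p)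
    (hdim : ∀ j : ℤ, j + 2 * (dim X.obj.left : ℤ) + 2 * (dim X.obj.left : ℤ) - 2 * (dim Q.obj.left : ℤ) = j)
    (u : ↥(T.gr Q (2 * (dim X.obj.left : ℤ))))
    (hJ : ∀ ψ ∈ Algebra.adjoin K
      (Set.range (fun z : {z : ↥(T.gr Q (2 * (dim X.obj.left : ℤ))) //
          (z : T.H Q) ∈ Submodule.span K (Set.range (T.cl Q))} =>
        fun j : Fin (2 * dim X.obj.left + 1) =>
          (LinearEquiv.ofEq (T.gr X _) (T.gr X ((j : ℕ) : ℤ))
            (congrArg (T.gr X) (hdim ((j : ℕ) : ℤ)))).toLinearMap ∘ₗ corr T p q z.1 ((j : ℕ) : ℤ))),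
      IsNilpotent (ψ * fun j : Fin (2 * dim X.obj.left + 1) =>
          (LinearEquiv.ofEq (T.gr X _) (T.gr X ((j : ℕ) : ℤ))
            (congrArg (T.gr X) (hdim ((j : ℕ) : ℤ)))).toLinearMap ∘ₗ corr T p q u ((j : ℕ) : ℤ)))
    (v : ↥(T.gr Q (2 * (dim X.obj.left : ℤ))))
    (hv : (v : T.H Q) ∈ Submodule.span K (Set.range (T.cl Q))) :
    T.tr Q ((u : T.H Q) * (v : T.H Q)) = 0 := by
  have hd := dim_prod T p q hQ
  let φ : ↥(T.gr Q (2 * (dim X.obj.left : ℤ) + 0)) := ⟨u, mem_of_deg_eq T (by ring) u.2⟩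
  let ψ : ↥(T.gr Q (2 * (dim X.obj.left : ℤ) - 0)) :=
    ⟨T.pull σ v, mem_of_deg_eq T (by ring) (T.pull_mem σ _ _ v.2)⟩
  have h := tr_mul_pull_swap T p q hQ p q hQ σ hσp hσq 0 (fun i => by omega) φ ψ
  have hσv : T.pull σ (T.pull σ (v : T.H Q)) = v := pull_section T σ σ (involution hQ hσp hσq) _
  rw [show T.pull σ (ψ : T.H Q) = (v : T.H Q) from hσv] at h
  show T.tr Q ((φ : T.H Q) * (v : T.H Q)) = 0
  rw [h]
  refine Finset.sum_eq_zero fun i hi => ?_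
  rw [Finset.mem_range] at hi
  let z : {z : ↥(T.gr Q (2 * (dim X.obj.left : ℤ))) //
      (z : T.H Q) ∈ Submodule.span K (Set.range (T.cl Q))} :=
    ⟨⟨T.pull σ v, T.pull_mem σ _ _ v.2⟩, pull_swap_mem_span T hQ hσp hσq hv⟩
  obtain ⟨n, hn⟩ := hJ _ (Algebra.subset_adjoin ⟨z, rfl⟩)
  have hnil := congrFun hn ⟨i, hi⟩
  simp only [Pi.pow_apply, Pi.mul_apply, Pi.zero_apply] at hnil
  refine mul_eq_zero_of_right _ ((congrArg (LinearMap.trace K ↥(T.gr X (i : ℤ))) ?_).trans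
    (LinearMap.isNilpotent_trace_of_isNilpotent ⟨n, hnil⟩).eq_zero)
  refine LinearMap.ext fun a => Subtype.ext ?_
  simp only [LinearMap.comp_apply, Module.End.mul_apply, LinearEquiv.coe_coe, LinearEquiv.coe_ofEq_apply]
  refine coe_corr_congr T p q (by ring) rfl (by omega) ?_
  exact coe_corr_congr T p q (by ring) rfl rfl rfl

end GrothLib.WeilCoh
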