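import Groth.Agent.Lib.WeilCoh.Basic
import Groth.Agent.Lib.ProjSp.Section
import Groth.Agent.Lib.RedSmooth.Basic

/-!
The point as an object, and the classes of the whole space and of a closed point.
-/

set_option linter.style.haveILetI false

universe u v w

open CategoryTheory Limits AlgebraicGeometry

namespace GrothLib.WeilCoh

open _root_.WeilCoh

variable (k : Type u) [Field k]

lemma isVar_point : IsVar k (Over.mk (𝟙 (Spec (CommRingCat.of k)))) := by
  refine ⟨inferInstanceAs (Smooth (𝟙 _)), ⟨0, ?_⟩, inferInstanceAs (IrreducibleSpace (PrimeSpectrum k))⟩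
  haveI := GrothLib.ProjSp.isIso_toSpec_zero (ULift.{u} ℤ)
  haveI : IsIso (CohB1.ProjSpaceOver.toBase 0 (Spec (CommRingCat.of k))) := by
    unfold CohB1.ProjSpaceOver.toBase; exact pullback_snd_iso_of_left_iso _ _
  exact ⟨inv (CohB1.ProjSpaceOver.toBase 0 (Spec (CommRingCat.of k))), inferInstance, IsIso.inv_hom_id _⟩

/-- The point. -/
noncomputable def pt : Var k := ⟨Over.mk (𝟙 (Spec (CommRingCat.of k))), isVar_point k⟩

variable {k}

/-- The structure morphism to the point. -/
noncomputable def toPt (X : Var k) : X ⟶ pt k :=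
  ObjectProperty.homMk (Over.homMk X.obj.hom)

lemma dim_pt : dim (pt k).obj.left = 0 := by
  refine natDim_of_eq ?_
  rw [Nat.cast_zero]
  refine le_antisymm ?_ (Order.krullDim_nonneg_iff.2
    ⟨⟨Set.univ, IrreducibleSpace.isIrreducible_univ _, isClosed_univ⟩⟩)
  haveI : Subsingleton ↥(pt k).obj.left := inferInstanceAs (Subsingleton (PrimeSpectrum k))
  exact topologicalKrullDim_zero_of_discreteTopology _

lemma pdim_pt (ξ : (pt k).obj.left) : pdim (pt k).obj.left ξ = 0 :=
  Nat.le_zero.1 (dim_pt (k := k) ▸ pdim_le_dim (pt k) ξ)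

lemma preimMult_toPt (X : Var k) [IrreducibleSpace ↥X.obj.left] (ξ : (pt k).obj.left)
    (h : sm (toPt X) (genericPoint ↥X.obj.left) ∈ closure ({ξ} : Set (pt k).obj.left)) :
    preimMult (sm (toPt X)) ξ (genericPoint ↥X.obj.left) h = 1 := by
  have : Smooth X.obj.hom := X.property.1
  have : IsReduced (Spec (CommRingCat.of k)) := inferInstance
  have : IsReduced X.obj.left := GrothLib.RedSmooth.isReduced_of_smooth X.obj.hom
  have : IsIntegral X.obj.left := isIntegral_of_irreducibleSpace_of_isReduced _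
  have hF : IsField (X.obj.left.presheaf.stalk (genericPoint ↥X.obj.left)) :=
    Field.toIsField X.obj.left.functionField
  have : IsReduced (pt k).obj.left := inferInstanceAs (IsReduced (Spec (CommRingCat.of k)))
  unfold preimMult
  set I := Ideal.map ((sm (toPt X)).stalkMap (genericPoint ↥X.obj.left)).hom
    (RingHom.ker (Cyc.specMap (sm (toPt X) (genericPoint ↥X.obj.left)) ξ
      (specializes_iff_mem_closure.mpr h))) with hI
  have hne : I ≠ ⊤ := by
    intro e
    have hle : I ≤ IsLocalRing.maximalIdeal _ := by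
      rw [hI]
      refine Ideal.map_le_iff_le_comap.2 (le_trans (IsLocalRing.le_maximalIdeal ?_)
        (le_of_eq ((IsLocalRing.maximalIdeal_comap _).symm)))
      exact RingHom.ker_ne_top _
    exact (IsLocalRing.maximalIdeal.isMaximal _).ne_top (top_le_iff.1 (e ▸ hle))
  letI := hF.toField
  have hI0 : I = ⊥ := (Ideal.eq_bot_or_top I).resolve_right hne
  rw [hI0]
  have hs : IsSimpleModule (X.obj.left.presheaf.stalk (genericPoint ↥X.obj.left))
      (X.obj.left.presheaf.stalk (genericPoint ↥X.obj.left) ⧸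
        (⊥ : Ideal (X.obj.left.presheaf.stalk (genericPoint ↥X.obj.left)))) :=
    IsSimpleModule.congr (Submodule.quotEquivOfEqBot ⊥ rfl)
  rw [Module.length_eq_one_iff.2 hs]
  rfl

variable {K : Type v} [Field K] (T : TheoryOn.{u, v, w} k (IsVar k) K)

lemma cl_pt (ξ : (pt k).obj.left) : T.cl (pt k) ξ = 1 := (T.point (pt k) dim_pt).1 ξ

lemma tr_pt : T.tr (pt k) 1 = 1 := (T.point (pt k) dim_pt).2

/-- The class of the whole space is one. -/
lemma cl_genericPoint (X : Var k) [IrreducibleSpace ↥X.obj.left] :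
    T.cl X (genericPoint ↥X.obj.left) = 1 := by
  set η := genericPoint ↥X.obj.left
  set ξ := sm (toPt X) η
  have : Smooth X.obj.hom := X.property.1
  haveI : Subsingleton ↥(pt k).obj.left := inferInstanceAs (Subsingleton (PrimeSpectrum k))
  have hF : (sm (toPt X)) ⁻¹' closure ({ξ} : Set (pt k).obj.left) = Set.univ :=
    Set.eq_univ_of_forall fun x => by
      rw [Set.mem_preimage, Subsingleton.elim ((sm (toPt X)) x) ξ]
      exact subset_closure rfl
  have hcomp : ∀ w, IsCompPt ((sm (toPt X)) ⁻¹' closure ({ξ} : Set (pt k).obj.left)) w ↔ w = η := by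
    intro w
    rw [hF]
    refine ⟨fun h => ?_, fun h => ?_⟩
    · exact (h.2 η trivial ((genericPoint_spec ↥X.obj.left).specializes trivial)).symm
    · subst h
      exact ⟨trivial, fun w' _ hw' =>
        (hw'.antisymm ((genericPoint_spec ↥X.obj.left).specializes trivial)).eq⟩
  have h := T.cl_pull (toPt X) ξ (fun w hw => by
      rw [(hcomp w).1 hw, pdim_genericPoint, pdim_pt, dim_pt]; simp)
    (Or.inl ⟨⊤, Set.subset_univ _, by
      haveI : Flat (sm (toPt X)) := inferInstanceAs (Flat X.obj.hom)
      infer_instance⟩)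
  rw [cl_pt T, map_one] at h
  haveI : Unique {w : X.obj.left // IsCompPt ((sm (toPt X)) ⁻¹' closure ({ξ} : Set (pt k).obj.left)) w} :=
    { default := ⟨η, (hcomp η).2 rfl⟩, uniq := fun w => Subtype.ext ((hcomp w.1).1 w.2) }
  rw [finsum_unique] at h
  rw [h]
  have hd : ((default : {w : X.obj.left //
      IsCompPt ((sm (toPt X)) ⁻¹' closure ({ξ} : Set (pt k).obj.left)) w}) : X.obj.left) = η :=
    (hcomp _).1 (Subtype.prop _)
  generalize hg : (default : {w : X.obj.left //
      IsCompPt ((sm (toPt X)) ⁻¹' closure ({ξ} : Set (pt k).obj.left)) w}) = w at hd ⊢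
  obtain ⟨w, hw⟩ := w
  dsimp only at hd
  subst hd
  rw [preimMult_toPt X ξ hw.1, Nat.cast_one, one_smul]

/-- The trace of the class of a closed point is one. -/
lemma tr_cl_of_isClosed [IsAlgClosed k] (X : Var k) (x : X.obj.left)
    (hx : IsClosed ({x} : Set ↥X.obj.left)) : T.tr X (T.cl X x) = 1 := by
  have h := T.cl_push (toPt X) x 1 (by
    rw [pdim_eq_zero_of_isClosed X x hx]
    exact SetLike.one_mem_graded (T.gr (pt k)))
  rw [map_one, mul_one, residueDegree_of_isClosed (toPt X) x hx, cl_pt T, mul_one, tr_pt T] at h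
  simpa using h

/-- The trace of a pull-back along a map between objects of the same dimension. -/
lemma tr_pull {X Y : Var k} [IrreducibleSpace ↥X.obj.left] [IrreducibleSpace ↥Y.obj.left] (f : X ⟶ Y)
    (hdom : sm f (genericPoint ↥X.obj.left) = genericPoint ↥Y.obj.left)
    (hdim : dim X.obj.left = dim Y.obj.left) {a : T.H Y}
    (ha : a ∈ T.gr Y (2 * (dim Y.obj.left : ℤ))) :
    T.tr X (T.pull f a) = ((sm f).residueDegree (genericPoint ↥X.obj.left) : K) * T.tr Y a := by
  have h := T.cl_push f (genericPoint ↥X.obj.left) a (by rw [pdim_genericPoint, hdim]; exact ha)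
  rwa [cl_genericPoint T X, one_mul, hdom, cl_genericPoint T Y, one_mul] at h

end GrothLib.WeilCoh
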