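import Groth.Agent.Lib.WeilCoh.FixedPoints
import Groth.Agent.Lib.WeilCoh.FunEq
import Groth.Agent.Lib.Zeta.CharSeries

/-!
The zeta function through the traces of Frobenius.
-/

set_option linter.style.haveILetI false

universe u v w

open CategoryTheory Limits AlgebraicGeometry

namespace GrothLib.WeilCoh

open _root_.WeilCoh GrothLib.Zeta

variable {k : Type u} [Field k] {K : Type v} [Field K] (T : TheoryOn.{u, v, w} k (IsVar k) K)

lemma sm_iterHom {X : Var k} (F : X ⟶ X) : ∀ m, sm (iterHom F m) = iterHom (sm F) m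
  | 0 => rfl
  | m + 1 => by rw [iterHom, iterHom, sm_comp, sm_iterHom F m]

lemma pullDeg_iterHom {X : Var k} (F : X ⟶ X) (i : ℤ) :
    ∀ m, T.pullDeg (iterHom F m) i = (T.pullDeg F i) ^ m
  | 0 => by
    refine LinearMap.ext fun b => Subtype.ext ?_
    show T.pull (𝟙 X) (b : T.H X) = _
    rw [T.pull_id]; rfl
  | m + 1 => by
    refine LinearMap.ext fun b => Subtype.ext ?_
    show T.pull (iterHom F m ≫ F) (b : T.H X) = _
    rw [T.pull_comp, AlgHom.comp_apply, pow_succ, ← pullDeg_iterHom F i m]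
    rfl

variable {k₀ : Type u} [Field k₀] [Finite k₀] [IsAlgClosed k] [Algebra k₀ k]

theorem nPts_eq_trace {X₀ : Scheme.{u}} (f : X₀ ⟶ Spec (CommRingCat.of k₀)) [LocallyOfFiniteType f]
    [QuasiCompact f] (FX : X₀ ⟶ X₀) (hle : ∀ U : X₀.Opens, U ≤ FX ⁻¹ᵁ U)
    (hFapp : ∀ (U : X₀.Opens) (s : Γ(X₀, U)), (FX.appLE U U (hle U)).hom s = s ^ Nat.card k₀)
    (Xb : Var k) (π : Xb.obj.left ⟶ X₀)
    (hπ : IsPullback π Xb.obj.hom f (Spec.map (CommRingCat.ofHom (algebraMap k₀ k))))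
    (F : Xb ⟶ Xb) (hF : sm F ≫ π = π ≫ FX) {Pb : Var k} (p q : Pb ⟶ Xb) (hP : IsProd p q)
    (m : ℕ) (hm : 1 ≤ m) :
    (_root_.Zeta.nPts f m : K) = ∑ i ∈ Finset.range (2 * dim Xb.obj.left + 1),
      (-1 : K) ^ i * LinearMap.trace K ↥(T.gr Xb (i : ℤ)) ((T.pullDeg F (i : ℤ)) ^ m) := by
  haveI : IrreducibleSpace ↥Xb.obj.left := irreducibleSpace_left Xb
  obtain ⟨j, hjp, hjq⟩ := exists_lift hP (𝟙 Xb) (iterHom F m)
  obtain ⟨d, hdp, hdq⟩ := exists_lift hP (𝟙 Xb) (𝟙 Xb)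
  have hG : sm (iterHom F m) ≫ π = π ≫ iterHom FX m := by
    rw [sm_iterHom]; exact iterHom_comp hF m
  rw [← tr_inter_eq_nPts FX hle hFapp hπ m hm (iterHom F m) hG p q hP j d hjp hjq hdp hdq T,
    tr_cl_graph_mul_cl_diag T (iterHom F m) p q hP j d hjp hjq hdp hdq]
  exact Finset.sum_congr rfl fun i _ => by rw [pullDeg_iterHom]

theorem zetaFun_mul_prod [CharZero K] {X₀ : Scheme.{u}} (f : X₀ ⟶ Spec (CommRingCat.of k₀))
    [LocallyOfFiniteType f] [QuasiCompact f] (FX : X₀ ⟶ X₀) (hle : ∀ U : X₀.Opens, U ≤ FX ⁻¹ᵁ U)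
    (hFapp : ∀ (U : X₀.Opens) (s : Γ(X₀, U)), (FX.appLE U U (hle U)).hom s = s ^ Nat.card k₀)
    (Xb : Var k) (π : Xb.obj.left ⟶ X₀)
    (hπ : IsPullback π Xb.obj.hom f (Spec.map (CommRingCat.ofHom (algebraMap k₀ k))))
    (F : Xb ⟶ Xb) (hF : sm F ≫ π = π ≫ FX) {Pb : Var k} (p q : Pb ⟶ Xb) (hP : IsProd p q) :
    PowerSeries.map (algebraMap ℚ K) (_root_.Zeta.zetaFun f) *
        (∏ i ∈ Finset.range (dim Xb.obj.left + 1),
          ((LinearMap.charpoly (T.pullDeg F ((2 * i : ℕ) : ℤ))).reverse : PowerSeries K)) =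
      ∏ i ∈ Finset.range (dim Xb.obj.left),
        ((LinearMap.charpoly (T.pullDeg F ((2 * i + 1 : ℕ) : ℤ))).reverse : PowerSeries K) := by
  refine (((isExpOf_zetaFun f).map (algebraMap ℚ K)).mul (IsExpOf.prod _ fun i _ =>
    isExpOf_charpoly_reverse (T.pullDeg F ((2 * i : ℕ) : ℤ)))).ext
    (IsExpOf.prod _ fun i _ => isExpOf_charpoly_reverse (T.pullDeg F ((2 * i + 1 : ℕ) : ℤ)))
    (by simp [nPts_zero]) (by simp) fun m hm => ?_
  have hm0 : m ≠ 0 := by omega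
  simp only [Pi.add_apply, if_neg hm0, map_natCast, Finset.sum_neg_distrib]
  rw [nPts_eq_trace T f FX hle hFapp Xb π hπ F hF p q hP m hm, sum_range_two_mul_succ]
  simp [pow_succ, pow_mul, Finset.sum_add_distrib]

end GrothLib.WeilCoh
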